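import Cfsg.Agent.ClassicalGeometry.PSUAutUnip
import Cfsg.Agent.H934.IdxPSU

/-!
# The transvection groups and the Heisenberg groups of `PSU_n(q)` (helper667)

* `card_RR`, `card_QQ` : orders `q` and `q ^ (2 n - 3)`;
* `ZZ hF` : the set of the groups `RR u`; `card_ZZ` its cardinality; `ZZ_map` : invariant under automorphisms,
  `ZZ_int` : trivial intersections, `ZZ_conj` : one class;
* `exists_QQ` : some `Z` in `ZZ` lies in a Heisenberg group `Q` of order `q ^ (2 n - 3)` normalised by the stabiliser of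
  `Z` in the automorphism group;
* `sylow_normalizer` : the normaliser of a Sylow subgroup in characteristic `p` normalises some `Z` in `ZZ`.
-/

set_option autoImplicit false

namespace Cfsg.Agent.H667.TwoPSUModel

open Cfsg Cfsg.Agent.LieClassical.HermBasic Cfsg.Agent.LieClassical.HermSiegel
  Cfsg.Agent.LieClassical.HermGen Cfsg.Agent.LieClassical.SUBasic Cfsg.Agent.ClassicalGeometry.PSUAutBasic
  Cfsg.Agent.ClassicalGeometry.PSUAutSylow Cfsg.Agent.ClassicalGeometry.PSUAutUnip Cfsg.Agent.H934.IdxPSU Matrix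
open scoped commutatorElement

variable {F : Type*} [Field F] [Fintype F] {q n : ℕ}

/-- the elements of trace zero are the multiples of one of them by fixed elements -/
theorem card_trace_zero (hF : Fintype.card F = q ^ 2) : Nat.card {x : F // x + x ^ q = 0} = q := by
  obtain ⟨c0, hc0, hc⟩ := exists_trace_zero_ne hF
  have hcq : c0 ^ q = -c0 := by linear_combination hc
  refine (Nat.card_congr ?_).trans (card_fixed hF)
  exact
    { toFun := fun x => ⟨c0⁻¹ * x.1, by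
        have h1 : x.1 ^ q = -x.1 := by linear_combination x.2
        rw [mul_pow, inv_pow, hcq, h1, inv_neg, neg_mul_neg]⟩
      invFun := fun x => ⟨c0 * x.1, by rw [mul_pow, hcq, x.2]; ring⟩
      left_inv := fun x => Subtype.ext (mul_inv_cancel_left₀ hc0 _)
      right_inv := fun x => Subtype.ext (inv_mul_cancel_left₀ hc0 _) }

theorem transv_inj (hF : Fintype.card F = q ^ 2) {u : Fin n → F} (hu0 : u ≠ 0) (hu : hermForm n F q u u = 0)
    {μ ν : F} (hμ : μ + μ ^ q = 0) (hν : ν + ν ^ q = 0) (h : transv hF u hu μ hμ = transv hF u hu ν hν) : μ = ν := by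
  obtain ⟨f, hff, huf, hfu⟩ := exists_partner hF hu0 hu
  have h2 : act (transv hF u hu μ hμ) f = act (transv hF u hu ν hν) f := by rw [h]
  rw [act_transv, act_transv, hfu, mul_one, mul_one] at h2
  exact smul_left_injective F hu0 (add_left_cancel h2)

/-- `|RR u| = q` -/
theorem card_RR (hF : Fintype.card F = q ^ 2) (hn : 3 ≤ n) {u : Fin n → F} (hu0 : u ≠ 0)
    (hu : hermForm n F q u u = 0) : Nat.card (RR hF u hu) = q := by
  refine Eq.trans ?_ (card_trace_zero hF)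
  symm
  refine Nat.card_eq_of_bijective
    (fun x : {x : F // x + x ^ q = 0} => (⟨pr n F q (transv hF u hu x.1 x.2), mem_RR.2 ⟨_, _, rfl⟩⟩ : RR hF u hu))
    ⟨?_, ?_⟩
  · rintro ⟨x, hx⟩ ⟨y, hy⟩ h
    have h1 : pr n F q (transv hF u hu x hx) = pr n F q (transv hF u hu y hy) := congrArg Subtype.val h
    exact Subtype.ext (transv_inj hF hu0 hu hx hy (siegel_pr_inj hF hn _ _ h1))
  · rintro ⟨_, hy⟩
    obtain ⟨μ, hμ, rfl⟩ := mem_RR.1 hy
    exact ⟨⟨μ, hμ⟩, rfl⟩

/-- Normal form of Siegel elements. -/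
theorem exists_normal (hF : Fintype.card F = q ^ 2) {e f : Fin n → F} (H : IsFrame q e f) {w : Fin n → F} {μ : F}
    (h : IsSiegel q e w μ) : ∃ (w' : Fin n → F) (a : F) (_ : w' ∈ coordSub F n (n - 2)) (h' : IsSiegel q e w' a),
      siegel hF e w μ h = siegel hF e w' a h' := by
  have hfe : hermForm n F q f e = 1 := by rw [herm_swap hF, H.ef, one_pow]
  obtain ⟨c, hc⟩ : ∃ c, c = hermForm n F q w f := ⟨_, rfl⟩
  obtain ⟨w', hw'⟩ : ∃ w', w' = w - c • e := ⟨_, rfl⟩
  have h2 : w = w' + c • e := by rw [hw']; abel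
  have hwe : hermForm n F q w' e = 0 := by
    rw [hw', herm_sub_left, herm_smul_left, h.orth, h.iso]; ring
  have hwf : hermForm n F q w' f = 0 := by
    rw [hw', herm_sub_left, herm_smul_left, H.ef, ← hc]; ring
  have hn1 : hermForm n F q w' w' = hermForm n F q w w := by
    rw [hw', herm_sub_left, herm_sub_right hF, herm_sub_right hF, herm_smul_left, herm_smul_left, herm_smul_right,
      herm_smul_right, h.orth, h.orth' hF, h.iso]
    ring
  have h' : IsSiegel q e w' (μ + (c - c ^ q)) := by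
    refine ⟨h.iso, hwe, ?_⟩
    rw [hn1, add_pow_q hF, sub_pow_q hF, pow_q_pow_q hF]
    linear_combination h.tr
  refine ⟨w', μ + (c - c ^ q), (H.mem _).2 ⟨hwe, hwf⟩, h', ?_⟩
  apply ext_act
  intro v
  rw [act_siegel, act_siegel]
  have h3 : hermForm n F q v w = hermForm n F q v w' + c ^ q * hermForm n F q v e := by
    conv_lhs => rw [h2]
    rw [herm_add_right hF, herm_smul_right]
  rw [h3, h2]
  module

theorem card_siegG_le (hF : Fintype.card F = q ^ 2) {e f : Fin n → F} (H : IsFrame q e f) :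
    Nat.card (siegG hF e H.ee) ≤ (q ^ 2) ^ (n - 2) * q := by
  have hcard : Nat.card ((Fin (n - 2) → F) × {x : F // x + x ^ q = 0}) = (q ^ 2) ^ (n - 2) * q := by
    rw [Nat.card_prod, card_trace_zero hF, Nat.card_fun, Nat.card_eq_fintype_card, Nat.card_eq_fintype_card, hF,
      Fintype.card_fin]
  rw [← hcard]
  have htr : ∀ w : Fin n → F, ∃ μ : F, μ + μ ^ q = -hermForm n F q w w := fun w =>
    exists_trace_eq hF (by rw [neg_pow_q hF, herm_self_pow hF])
  choose m hm using htr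
  have hS : ∀ p : (Fin (n - 2) → F) × {x : F // x + x ^ q = 0}, IsSiegel q e (ext0 n p.1) (m (ext0 n p.1) + p.2) := by
    intro p
    refine ⟨H.ee, ((H.mem _).1 (ext0_mem p.1)).1, ?_⟩
    rw [add_pow_q hF]
    linear_combination hm (ext0 n p.1) + p.2.2
  refine Nat.card_le_card_of_surjective (fun p => ⟨siegel hF e _ _ (hS p), mem_siegG.2 ⟨_, _, _, rfl⟩⟩) ?_
  rintro ⟨_, w, μ, h, rfl⟩
  obtain ⟨w', a, hw', h', he⟩ := exists_normal hF H h
  have hext : ext0 n (fun i : Fin (n - 2) => w' ⟨i.val, by omega⟩) = w' := by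
    funext i
    unfold ext0
    by_cases hi : i.val < n - 2
    · rw [dif_pos hi]
    · rw [dif_neg hi]
      exact (hw' i (by omega)).symm
  have hx : (a - m w') + (a - m w') ^ q = 0 := by
    rw [sub_pow_q hF]
    linear_combination h'.tr - hm w'
  refine ⟨(fun i : Fin (n - 2) => w' ⟨i.val, by omega⟩, ⟨a - m w', hx⟩), Subtype.ext ?_⟩
  refine Eq.trans ?_ he.symm
  exact siegel_congr hF (hS (fun i : Fin (n - 2) => w' ⟨i.val, by omega⟩, ⟨a - m w', hx⟩)) h' rfl hext (by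
    change m (ext0 n fun i : Fin (n - 2) => w' ⟨i.val, by omega⟩) + (a - m w') = a
    rw [hext]; ring)

theorem card_QQ_frame (hF : Fintype.card F = q ^ 2) (hn : 3 ≤ n) {e f : Fin n → F} (H : IsFrame q e f) :
    Nat.card (QQ hF e H.ee) = q ^ (2 * n - 3) := by
  have h1 : Nat.card (QQ hF e H.ee) = Nat.card (siegG hF e H.ee) := by
    symm
    refine Nat.card_eq_of_bijective (fun x => ⟨pr n F q x.1, x.1, x.2, rfl⟩) ⟨?_, ?_⟩
    · rintro ⟨_, w, μ, h, rfl⟩ ⟨_, w', μ', h', rfl⟩ heq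
      exact Subtype.ext (siegel_pr_inj hF hn h h' (congrArg Subtype.val heq))
    · rintro ⟨_, x, hx, rfl⟩
      exact ⟨⟨x, hx⟩, rfl⟩
  rw [h1, le_antisymm (card_siegG_le hF H) (card_siegG hF H), ← pow_mul, ← pow_succ]
  congr 1
  omega

theorem RR_le_QQ (hF : Fintype.card F = q ^ 2) {u : Fin n → F} (hu : hermForm n F q u u = 0) :
    RR hF u hu ≤ QQ hF u hu :=
  Subgroup.map_mono (transvG_le_siegG hF hu)

theorem QQ_comm (hF : Fintype.card F = q ^ 2) {u : Fin n → F} (hu : hermForm n F q u u = 0) :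
    ∀ x ∈ QQ hF u hu, ∀ y ∈ QQ hF u hu, ⁅x, y⁆ ∈ RR hF u hu := by
  intro x hx y hy
  obtain ⟨w, μ, h, rfl⟩ := mem_QQ.1 hx
  obtain ⟨w', μ', h', rfl⟩ := mem_QQ.1 hy
  rw [← map_commutatorElement, commutatorElement_def, siegel_comm hF h h' (trace_zero_sub hF w w') rfl]
  exact mem_RR.2 ⟨_, _, rfl⟩

theorem QQ_cen (hF : Fintype.card F = q ^ 2) {u : Fin n → F} (hu : hermForm n F q u u = 0) :
    ∀ z ∈ RR hF u hu, ∀ v ∈ QQ hF u hu, v * z = z * v := by
  intro z hz v hv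
  obtain ⟨ν, hν, rfl⟩ := mem_RR.1 hz
  obtain ⟨w, μ, h, rfl⟩ := mem_QQ.1 hv
  rw [← map_mul, transv_comm hF h hν, map_mul]

theorem QQ_surj (hF : Fintype.card F = q ^ 2) {u : Fin n → F} (hu0 : u ≠ 0) (hu : hermForm n F q u u = 0) :
    ∀ x ∈ QQ hF u hu, x ∉ RR hF u hu → ∀ z ∈ RR hF u hu, ∃ v ∈ QQ hF u hu, ⁅x, v⁆ = z := by
  rintro _ ⟨x, hx, rfl⟩ hxR _ ⟨z, hz, rfl⟩
  have h1 := (hyp hF hu0 hu).special ⟨x, hx⟩ (Subgroup.mem_top _)
    (by
      rw [Subgroup.mem_subgroupOf]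
      intro h
      exact hxR ⟨x, h, rfl⟩)
    ⟨z, transvG_le_siegG hF hu hz⟩ (by rw [Subgroup.mem_subgroupOf]; exact hz)
  obtain ⟨y, -, hy⟩ := h1
  refine ⟨pr n F q y, ⟨y, y.2, rfl⟩, ?_⟩
  rw [← map_commutatorElement, commutatorElement_def]
  exact congrArg (fun t : siegG hF u hu => pr n F q t.1) hy

/-- conjugation of `RR` -/
theorem RR_map_conj (hF : Fintype.card F = q ^ 2) {u : Fin n → F} (hu : hermForm n F q u u = 0) (g : SU n F q)
    (hgu : hermForm n F q (act g u) (act g u) = 0) :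
    (RR hF u hu).map (MulAut.conj (pr n F q g)).toMonoidHom = RR hF (act g u) hgu := by
  ext x
  rw [RR_conj hF hu g hgu x]
  constructor
  · rintro ⟨y, hy, rfl⟩
    have : (pr n F q g)⁻¹ * (MulAut.conj (pr n F q g)).toMonoidHom y * pr n F q g = y := by
      change (pr n F q g)⁻¹ * (pr n F q g * y * (pr n F q g)⁻¹) * pr n F q g = y
      group
    rw [this]; exact hy
  · intro hx
    refine ⟨_, hx, ?_⟩
    change pr n F q g * ((pr n F q g)⁻¹ * x * pr n F q g) * (pr n F q g)⁻¹ = x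
    group

/-- conjugation of `QQ` -/
theorem QQ_map_conj (hF : Fintype.card F = q ^ 2) {u : Fin n → F} (hu : hermForm n F q u u = 0) (g : SU n F q)
    (hgu : hermForm n F q (act g u) (act g u) = 0) :
    (QQ hF u hu).map (MulAut.conj (pr n F q g)).toMonoidHom = QQ hF (act g u) hgu := by
  ext x
  constructor
  · rintro ⟨_, hy, rfl⟩
    obtain ⟨w, μ, h, rfl⟩ := mem_QQ.1 hy
    refine mem_QQ.2 ⟨act g w, μ, h.map g, ?_⟩
    change pr n F q g * pr n F q (siegel hF u w μ h) * (pr n F q g)⁻¹ = _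
    rw [← map_inv, ← map_mul, ← map_mul, conj_siegel]
  · intro hx
    obtain ⟨w, μ, h, rfl⟩ := mem_QQ.1 hx
    have h1 := h.map g⁻¹
    have h2 : act g⁻¹ (act g u) = u := act_inv_act g u
    rw [h2] at h1
    refine ⟨pr n F q (siegel hF u (act g⁻¹ w) μ h1), mem_QQ.2 ⟨_, _, _, rfl⟩, ?_⟩
    change pr n F q g * pr n F q (siegel hF u (act g⁻¹ w) μ h1) * (pr n F q g)⁻¹ = _
    rw [← map_inv, ← map_mul, ← map_mul, conj_siegel]
    congr 1
    exact siegel_congr hF _ _ rfl (act_act_inv g w) rfl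

theorem QQ_congr (hF : Fintype.card F = q ^ 2) {u u' : Fin n → F}
    (hu : hermForm n F q u u = 0) (hu' : hermForm n F q u' u' = 0) (h : u = u') :
    QQ hF u hu = QQ hF u' hu' := by
  subst h; rfl

theorem QQ_smul_le (hF : Fintype.card F = q ^ 2) {u : Fin n → F} (hu : hermForm n F q u u = 0)
    {c : F} (hu' : hermForm n F q (c • u) (c • u) = 0) :
    QQ hF (c • u) hu' ≤ QQ hF u hu := by
  intro x hx
  obtain ⟨w, μ, h, rfl⟩ := mem_QQ.1 hx
  rcases eq_or_ne c 0 with rfl | hc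
  · have h1 : siegel hF ((0 : F) • u) w μ h = 1 := by
      apply ext_act
      intro v
      rw [act_siegel, act_one, zero_smul, herm_zero_right hF, zero_smul, smul_zero, add_zero, add_zero]
    rw [h1, map_one]
    exact one_mem _
  · have hwu : hermForm n F q w u = 0 := by
      have h1 := h.orth
      rw [herm_smul_right] at h1
      exact (mul_eq_zero.1 h1).resolve_left (pow_ne_zero _ hc)
    have h1 : IsSiegel q u ((c ^ q) • w) (c * c ^ q * μ) := by
      refine ⟨hu, by rw [herm_smul_left, hwu, mul_zero], ?_⟩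
      rw [mul_pow, norm_pow_q hF, herm_smul_left, herm_smul_right, pow_q_pow_q hF]
      linear_combination (c * c ^ q) * h.tr
    refine mem_QQ.2 ⟨_, _, h1, ?_⟩
    congr 1
    apply ext_act
    intro v
    rw [act_siegel, act_siegel]
    simp only [herm_smul_right, pow_q_pow_q hF]
    module

theorem QQ_smul (hF : Fintype.card F = q ^ 2) {u : Fin n → F} (hu : hermForm n F q u u = 0)
    {c : F} (hc : c ≠ 0) (hu' : hermForm n F q (c • u) (c • u) = 0) :
    QQ hF (c • u) hu' = QQ hF u hu := by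
  apply le_antisymm (QQ_smul_le hF hu hu')
  have h1 : c⁻¹ • c • u = u := inv_smul_smul₀ hc u
  have h2 : hermForm n F q (c⁻¹ • c • u) (c⁻¹ • c • u) = 0 := by rw [h1]; exact hu
  rw [QQ_congr hF hu h2 h1.symm]
  exact QQ_smul_le hF hu' h2

theorem QQ_of_RR (hF : Fintype.card F = q ^ 2) (hn : 3 ≤ n) {u u' : Fin n → F} (hu0 : u ≠ 0)
    (hu0' : u' ≠ 0) (hu : hermForm n F q u u = 0) (hu' : hermForm n F q u' u' = 0)
    (h : RR hF u hu = RR hF u' hu') : QQ hF u' hu' = QQ hF u hu := by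
  obtain ⟨c, hc, rfl⟩ := (RR_eq_iff hF hn hu0 hu0' hu hu').1 h
  exact QQ_smul hF hu hc hu'

/-! ### The class of transvection groups -/

/-- The set of the transvection groups. -/
def ZZ (hF : Fintype.card F = q ^ 2) (n : ℕ) : Set (Subgroup (PSU n F q)) :=
  {R | ∃ (u : Fin n → F) (_ : u ≠ 0) (hu : hermForm n F q u u = 0), R = RR hF u hu}

theorem RR_mem_ZZ (hF : Fintype.card F = q ^ 2) {u : Fin n → F} (hu0 : u ≠ 0) (hu : hermForm n F q u u = 0) :
    RR hF u hu ∈ ZZ hF n := ⟨u, hu0, hu, rfl⟩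

theorem ZZ_card_eq (hF : Fintype.card F = q ^ 2) (hn : 3 ≤ n) : ∀ Z ∈ ZZ hF n, Nat.card Z = q := by
  rintro _ ⟨u, hu0, hu, rfl⟩
  exact card_RR hF hn hu0 hu

theorem ZZ_map (hF : Fintype.card F = q ^ 2) (hn : 3 ≤ n) (α : MulAut (PSU n F q)) :
    ∀ Z ∈ ZZ hF n, Z.map (α : PSU n F q →* PSU n F q) ∈ ZZ hF n := by
  rintro _ ⟨u, hu0, hu, rfl⟩
  exact exists_map_RR hF hn α hu0 hu

/-- the fibres of the map from isotropic vectors to points -/
noncomputable def fibreEquiv (hF : Fintype.card F = q ^ 2) (hn : 3 ≤ n) {u : Fin n → F} (hu0 : u ≠ 0)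
    (hu : hermForm n F q u u = 0) :
    Fˣ ≃ {v : {v : Fin n → F // v ≠ 0 ∧ hermForm n F q v v = 0} // RR hF v.1 v.2.2 = RR hF u hu} :=
  Equiv.ofBijective
    (fun c => ⟨⟨(c : F) • u, smul_ne_zero c.ne_zero hu0, by rw [herm_smul_left, herm_smul_right, hu]; ring⟩,
      RR_le hF hu c.ne_zero _⟩) (by
    constructor
    · intro c c' h
      have h1 : (c : F) • u = (c' : F) • u := congrArg (fun w => w.1.1) h
      exact Units.ext (smul_left_injective F hu0 h1)
    · rintro ⟨⟨v, hv0, hv⟩, h⟩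
      obtain ⟨c, hc, rfl⟩ := (RR_eq_iff hF hn hu0 hv0 hu hv).1 h.symm
      exact ⟨Units.mk0 c hc, rfl⟩)

theorem card_iso_eq (hF : Fintype.card F = q ^ 2) (hn : 3 ≤ n) :
    Nat.card {v : Fin n → F // v ≠ 0 ∧ hermForm n F q v v = 0} = Nat.card (ZZ hF n) * (q ^ 2 - 1) := by
  classical
  let f : {v : Fin n → F // v ≠ 0 ∧ hermForm n F q v v = 0} → ZZ hF n := fun v => ⟨RR hF v.1 v.2.2, v.1, v.2.1, v.2.2, rfl⟩
  have hU : Nat.card Fˣ = q ^ 2 - 1 := by
    rw [Nat.card_units, Nat.card_eq_fintype_card, hF]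
  have hfib : ∀ Z : ZZ hF n, Nat.card {v // f v = Z} = q ^ 2 - 1 := by
    rintro ⟨_, u, hu0, hu, rfl⟩
    rw [← hU]
    symm
    refine (Nat.card_congr (fibreEquiv hF hn hu0 hu)).trans ?_
    exact Nat.card_congr (Equiv.subtypeEquivRight fun v => ⟨fun h => Subtype.ext h, fun h => congrArg Subtype.val h⟩)
  have : Fintype (ZZ hF n) := Fintype.ofFinite _
  calc Nat.card {v : Fin n → F // v ≠ 0 ∧ hermForm n F q v v = 0} = Nat.card (Σ Z : ZZ hF n, {v // f v = Z}) :=
        Nat.card_congr (Equiv.sigmaFiberEquiv f).symm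
    _ = ∑ Z : ZZ hF n, Nat.card {v // f v = Z} := Nat.card_sigma
    _ = ∑ _Z : ZZ hF n, (q ^ 2 - 1) := Finset.sum_congr rfl fun Z _ => hfib Z
    _ = Nat.card (ZZ hF n) * (q ^ 2 - 1) := by
      rw [Finset.sum_const, smul_eq_mul, Finset.card_univ, ← Nat.card_eq_fintype_card]

/-- The number of points. -/
theorem card_ZZ (hF : Fintype.card F = q ^ 2) (hn : 3 ≤ n) :
    (Nat.card (ZZ hF n) : ℤ) * ((q : ℤ) ^ 2 - 1) =
      ((q : ℤ) ^ n - (-1) ^ n) * ((q : ℤ) ^ (n - 1) + (-1) ^ n) := by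
  classical
  have hq2 := two_le hF
  have h1 := card_iso_eq hF hn
  have h2 : Nat.card {v : Fin n → F // hermForm n F q v v = 0} =
      Nat.card {v : Fin n → F // v ≠ 0 ∧ hermForm n F q v v = 0} + 1 := by
    rw [← Finite.card_option, Nat.card_congr]
    exact
      { toFun := fun v => if h : v.1 = 0 then none else some ⟨v.1, h, v.2⟩
        invFun := fun o => o.elim ⟨0, herm_zero_left 0⟩ (fun v => ⟨v.1, v.2.2⟩)
        left_inv := by
          rintro ⟨v, hv⟩
          by_cases h : v = 0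
          · subst h; simp
          · simp [h]
        right_inv := by
          rintro (_ | ⟨v, hv, hv'⟩)
          · simp
          · simp [hv] }
  have h3 := Cfsg.Agent.LieClassical.HermCount.card_herm_eq_zero hF n
  have hsub : ((q ^ 2 - 1 : ℕ) : ℤ) = (q : ℤ) ^ 2 - 1 := by
    rw [Nat.cast_sub (Nat.one_le_pow _ _ (by omega))]
    push_cast; ring
  rw [h2, h1] at h3
  push_cast [hsub] at h3
  have hqZ : (q : ℤ) ≠ 0 := by
    have : (2 : ℤ) ≤ q := by exact_mod_cast hq2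
    linarith
  apply mul_left_cancel₀ hqZ
  obtain ⟨m, rfl⟩ : ∃ m, n = m + 1 := ⟨n - 1, by omega⟩
  rw [Nat.add_sub_cancel]
  have h4 : (-(q : ℤ)) ^ (m + 1) = (-1) ^ (m + 1) * (q : ℤ) ^ (m + 1) := neg_pow _ _
  rw [h4] at h3
  have h5 : ((-1 : ℤ) ^ (m + 1)) * (-1) ^ (m + 1) = 1 := by
    rw [← pow_add, ← two_mul, pow_mul]; norm_num
  have h6 : (q : ℤ) ^ (m + 1) = q * (q : ℤ) ^ m := pow_succ' _ _
  have h7 : (q : ℤ) ^ (2 * (m + 1)) = (q : ℤ) ^ (m + 1) * (q : ℤ) ^ (m + 1) := by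
    rw [← pow_add, two_mul]
  rw [h7, h6] at h3
  rw [h6]
  linear_combination h3 + (q : ℤ) * h5

/-- Different transvection groups intersect trivially. -/
theorem ZZ_int (hF : Fintype.card F = q ^ 2) (hn : 3 ≤ n) :
    ∀ Z ∈ ZZ hF n, ∀ Z' ∈ ZZ hF n, Z ≠ Z' → Z ⊓ Z' = ⊥ := by
  rintro _ ⟨u, hu0, hu, rfl⟩ _ ⟨u', hu0', hu', rfl⟩ hne
  rw [Subgroup.eq_bot_iff_forall]
  rintro x ⟨hx, hx'⟩
  obtain ⟨μ, hμ, rfl⟩ := mem_RR.1 hx
  obtain ⟨μ', hμ', h2⟩ := mem_RR.1 hx'
  by_contra hx1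
  apply hne
  have hμ0 : μ ≠ 0 := by
    intro h
    apply hx1
    rw [transv_eq_one hF hu hμ h, map_one]
  have h3 := siegel_pr_inj hF hn _ _ h2
  obtain ⟨f, -, huf, hfu⟩ := exists_partner hF hu0 hu
  have h5 : f + (μ * 1) • u = f + (μ' * hermForm n F q f u') • u' := by
    have h6 := act_transv hF hu hμ f
    have h7 := act_transv hF hu' hμ' f
    rw [hfu] at h6
    rw [← h6, ← h7]
    exact congrArg (fun g => act g f) h3
  rw [add_right_inj, mul_one] at h5
  have hne' : μ' * hermForm n F q f u' ≠ 0 := by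
    intro h0
    rw [h0, zero_smul, smul_eq_zero] at h5
    rcases h5 with h | h
    · exact hμ0 h
    · exact hu0 h
  refine (RR_eq_iff hF hn hu0 hu0' hu hu').2
    ⟨(μ' * hermForm n F q f u')⁻¹ * μ, mul_ne_zero (inv_ne_zero hne') hμ0, ?_⟩
  rw [mul_smul, h5, smul_smul, inv_mul_cancel₀ hne', one_smul]

/-- One class. -/
theorem ZZ_conj (hF : Fintype.card F = q ^ 2) (hn : 3 ≤ n) :
    ∀ Z ∈ ZZ hF n, ∀ Z' ∈ ZZ hF n, ∃ g : PSU n F q, Z.map (MulAut.conj g).toMonoidHom = Z' := by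
  rintro _ ⟨u, hu0, hu, rfl⟩ _ ⟨u', hu0', hu', rfl⟩
  obtain ⟨g, -, hg⟩ := exists_map_iso hF hn le_rfl (mem_coordSub_top u) (mem_coordSub_top u') hu0 hu0' hu hu'
  subst hg
  exact ⟨pr n F q g, RR_map_conj hF hu g hu'⟩

/-- The stabiliser (in the automorphism group) of a transvection group normalises the Heisenberg group. -/
theorem exists_QQ (hF : Fintype.card F = q ^ 2) (hn : 3 ≤ n) :
    ∃ Z ∈ ZZ hF n, ∃ Q : Subgroup (PSU n F q), Z ≤ Q ∧ Nat.card Q = q ^ (2 * n - 3) ∧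
      (∀ x ∈ Q, ∀ y ∈ Q, ⁅x, y⁆ ∈ Z) ∧ (∀ z ∈ Z, ∀ v ∈ Q, v * z = z * v) ∧
      (∀ x ∈ Q, x ∉ Z → ∀ z ∈ Z, ∃ v ∈ Q, ⁅x, v⁆ = z) ∧
      ∀ α : MulAut (PSU n F q), Z.map (α : PSU n F q →* PSU n F q) = Z →
        Q.map (α : PSU n F q →* PSU n F q) = Q := by
  obtain ⟨e, f, H⟩ := exists_frame (F := F) (n := n) hF (by omega)
  have he0 : e ≠ 0 := by
    rintro rfl
    have := H.ef
    rw [herm_zero_left] at this
    exact zero_ne_one this
  refine ⟨RR hF e H.ee, RR_mem_ZZ hF he0 H.ee, QQ hF e H.ee, RR_le_QQ hF H.ee, card_QQ_frame hF hn H,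
    QQ_comm hF H.ee, QQ_cen hF H.ee, QQ_surj hF he0 H.ee, fun α hα => ?_⟩
  have h1 : ∀ x, x ∈ RR hF e H.ee ↔ α x ∈ RR hF e H.ee := by
    intro x
    constructor
    · intro hx
      rw [← hα]
      exact ⟨x, hx, rfl⟩
    · intro hx
      rw [← hα] at hx
      obtain ⟨y, hy, hxy⟩ := hx
      have h2 : y = x := α.injective hxy
      rw [← h2]; exact hy
  have h2 : (QQ hF e H.ee).map (α : PSU n F q →* PSU n F q) ≤ QQ hF e H.ee := by
    rintro _ ⟨x, hx, rfl⟩
    exact map_QQ_le hF hn H α h1 x hx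
  exact Subgroup.eq_of_le_of_card_ge h2
    (Nat.card_congr ((QQ hF e H.ee).equivMapOfInjective (α : PSU n F q →* PSU n F q) α.injective).toEquiv).le

/-- The normaliser of a Sylow `p`-subgroup normalises a transvection group. -/
theorem sylow_normalizer (hF : Fintype.card F = q ^ 2) (hn : 3 ≤ n) (p : ℕ) [Fact p.Prime] [CharP F p]
    (P : Sylow p (PSU n F q)) : ∃ Z ∈ ZZ hF n,
      ∀ g ∈ Subgroup.normalizer ((P : Subgroup (PSU n F q)) : Set (PSU n F q)),
        Z.map (MulAut.conj g).toMonoidHom = Z := by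
  obtain ⟨S, hS⟩ := exists_sylow_lift p P
  obtain ⟨u, hu0, hu, hfix⟩ := exists_fixed p hF (by omega) S.isPGroup'
  have hcent := cent_sylow p hF hn S hu0 hu hfix
  rw [hS] at hcent
  refine ⟨RR hF u hu, RR_mem_ZZ hF hu0 hu, fun g hg => ?_⟩
  have hgP : (P : Subgroup (PSU n F q)).map (MulAut.conj g : PSU n F q →* PSU n F q) = P := by
    ext x
    constructor
    · rintro ⟨y, hy, rfl⟩
      exact (Subgroup.mem_normalizer_iff.1 hg y).1 hy
    · intro hx
      refine ⟨g⁻¹ * x * g, ?_, ?_⟩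
      · apply (Subgroup.mem_normalizer_iff.1 hg _).2
        have : g * (g⁻¹ * x * g) * g⁻¹ = x := by group
        rw [this]; exact hx
      · change g * (g⁻¹ * x * g) * g⁻¹ = x
        group
  have h2 := cent_map (P : Subgroup (PSU n F q)) (MulAut.conj g)
  rw [hgP, hcent] at h2
  exact h2

end Cfsg.Agent.H667.TwoPSUModel
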