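import Cfsg.Agent.H667.HerFin

/-!
# Hering's theorem, the action form (helper667)

`H` a group of semilinear permutations of the space `V` over the finite field `K`, `|K| = q`, `dim V = n ≥ 2`, transitive
on the points. Then `H` is a group of semilinear maps of a field with `q ^ n` elements (`ConclTwo`), or `H` acts
`F`-semilinearly for an extension field `F` of `K` acting on `V` and contains `SL_F(V)`, `Sp(V, f)` or a normal subgroup
`G₂(F)` preserving `f` (`NatOut`), or `(q, n)` is small (`Small`).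
-/

set_option autoImplicit false
set_option linter.style.haveILetI false

namespace Cfsg.Agent.H667.HerFin

open Module Cfsg.Agent.H50.Her Cfsg.Agent.PermutationGroups.RegularLinear

universe u

section

variable {p : ℕ} [hp : Fact p.Prime] {V : Type u} [AddCommGroup V] [Module (ZMod p) V] [Finite V] [Nontrivial V]
  {G L : Subgroup (V ≃ₗ[ZMod p] V)} {F : Type} [Field F] [Fintype F] [Module F V]

/-- multiplication by a scalar of `F` -/
def mulEnd (p : ℕ) (V : Type u) [AddCommGroup V] [Module (ZMod p) V] {F : Type} [Field F] [Module F V] (c : F) :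
    V →ₗ[ZMod p] V :=
  { toFun := fun v => c • v
    map_add' := smul_add c
    map_smul' := fun z v => ZMod.map_smul (AddMonoidHom.mk' (fun v : V => c • v) (smul_add c)) z v }

omit [Finite V] [Nontrivial V] [Fintype F] in
@[simp] theorem mulEnd_apply (c : F) (v : V) : mulEnd p V c v = c • v := rfl

omit [Finite V] in
/-- The elements normalising `L` are `F`-semilinear. -/
theorem exists_semi (hnL : Nor G L)
    (hlin : ∀ g ∈ L, ∀ (c : F) (v : V), g (c • v) = c • g v)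
    (hend : ∀ f : V →ₗ[ZMod p] V, (∀ g ∈ L, ∀ v, f (g v) = g (f v)) → ∃ c : F, ∀ v, f v = c • v)
    (g : V ≃ₗ[ZMod p] V) (hg : g ∈ G) : ∃ σ : F ≃+* F, ∀ (c : F) (v : V), g (c • v) = σ c • g v := by
  obtain ⟨v0, hv0⟩ := exists_ne (0 : V)
  have huniq : ∀ a a' : F, a • v0 = a' • v0 → a = a' := fun a a' h => smul_left_injective F hv0 h
  have hex : ∀ c : F, ∃ a : F, ∀ v : V, g (c • v) = a • g v := by
    intro c
    obtain ⟨a, ha⟩ := hend ((g : V →ₗ[ZMod p] V) ∘ₗ mulEnd p V c ∘ₗ (g.symm : V →ₗ[ZMod p] V)) (by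
      intro l hl v
      have h1 := hnL g⁻¹ (G.inv_mem hg) l hl
      change g (c • g.symm (l v)) = l (g (c • g.symm v))
      have h2 : ∀ w, (g⁻¹ * l * g⁻¹⁻¹) w = g.symm (l (g w)) := fun w => by rw [inv_inv]; rfl
      have h3 : g.symm (l v) = (g⁻¹ * l * g⁻¹⁻¹) (g.symm v) := by rw [h2, g.apply_symm_apply]
      rw [h3, ← hlin _ h1, h2, g.apply_symm_apply])
    refine ⟨a, fun v => ?_⟩
    have h4 := ha (g v)
    change g (c • g.symm (g v)) = a • g v at h4
    rwa [g.symm_apply_apply] at h4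
  choose σ hσ using hex
  have huniq' : ∀ a a' : F, a • g v0 = a' • g v0 → a = a' := fun a a' h =>
    smul_left_injective F (by rwa [Ne, g.map_eq_zero_iff]) h
  let Sg : F →+* F :=
    { toFun := σ
      map_one' := huniq' _ _ (by rw [← hσ, one_smul, one_smul])
      map_mul' := fun x y => huniq' _ _ (by rw [← hσ, mul_smul, mul_smul, ← hσ, ← hσ])
      map_zero' := huniq' _ _ (by rw [← hσ, zero_smul, zero_smul, map_zero])
      map_add' := fun x y => huniq' _ _ (by rw [← hσ, add_smul, add_smul, ← hσ, ← hσ, map_add]) }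
  have hb : Function.Bijective Sg := ⟨Sg.injective, Finite.surjective_of_injective Sg.injective⟩
  exact ⟨RingEquiv.ofBijective Sg hb, fun c v => hσ c v⟩

omit [Nontrivial V] in
/-- The elements normalising `L` are semisimilarities of an invariant form. -/
theorem exists_semisim (hnL : Nor G L)
    (hlin : ∀ g ∈ L, ∀ (c : F) (v : V), g (c • v) = c • g v)
    (hend : ∀ f : V →ₗ[ZMod p] V, (∀ g ∈ L, ∀ v, f (g v) = g (f v)) → ∃ c : F, ∀ v, f v = c • v)
    (f : LinearMap.BilinForm F V) (hfn : f.Nondegenerate) (hf : ∀ g ∈ L, ∀ u v, f (g u) (g v) = f u v)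
    (g : V ≃ₗ[ZMod p] V) (hg : g ∈ G) (σ : F ≃+* F) (hσ : ∀ (c : F) (v : V), g (c • v) = σ c • g v) :
    ∃ μ : F, ∀ u v, f (g u) (g v) = μ * σ (f u v) := by
  have : Module.Finite F V := Module.Finite.of_finite
  -- the twisted form
  let f' : LinearMap.BilinForm F V := LinearMap.mk₂ F (fun u v => σ.symm (f (g u) (g v)))
    (fun u u' v => by rw [map_add, map_add, LinearMap.add_apply, map_add])
    (fun c u v => by rw [hσ, map_smul, LinearMap.smul_apply, smul_eq_mul, map_mul, σ.symm_apply_apply, smul_eq_mul])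
    (fun u v v' => by rw [map_add, map_add, map_add])
    (fun c u v => by rw [hσ, map_smul, smul_eq_mul, map_mul, σ.symm_apply_apply, smul_eq_mul])
  have hf' : ∀ u v, f' u v = σ.symm (f (g u) (g v)) := fun u v => rfl
  have hLf' : ∀ l ∈ L, ∀ u v, f' (l u) (l v) = f' u v := by
    intro l hl u v
    rw [hf', hf']
    have h1 := hnL g hg l hl
    have h2 : ∀ w, g (l w) = (g * l * g⁻¹) (g w) := fun w => by
      change g (l w) = g (l (g.symm (g w))); rw [g.symm_apply_apply]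
    rw [h2, h2, hf _ h1]
  -- `f' u v = f (T u) v`
  have hex : ∀ u, ∃ w, ∀ v, f' u v = f w v := by
    intro u
    obtain ⟨w, hw⟩ := (LinearMap.BilinForm.toDual f hfn).surjective (f' u)
    exact ⟨w, fun v => by rw [← hw]; rfl⟩
  choose T hT using hex
  have huniq : ∀ w w' : V, (∀ v, f w v = f w' v) → w = w' := by
    intro w w' h
    have h1 : w - w' = 0 := hfn.1 _ fun v => by rw [map_sub, LinearMap.sub_apply, h v, sub_self]
    exact sub_eq_zero.1 h1
  have hTadd : ∀ u v, T (u + v) = T u + T v := by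
    intro u v
    refine huniq _ _ fun w => ?_
    rw [← hT, map_add, LinearMap.add_apply, map_add, LinearMap.add_apply, hT, hT]
  let T' : V →ₗ[ZMod p] V :=
    { toFun := T
      map_add' := hTadd
      map_smul' := fun z v => ZMod.map_smul (AddMonoidHom.mk' T hTadd) z v }
  obtain ⟨c, hc⟩ := hend T' (by
    intro l hl v
    refine huniq _ _ fun w => ?_
    change f (T (l v)) w = f (l (T v)) w
    have h1 : w = l (l.symm w) := (l.apply_symm_apply w).symm
    rw [← hT]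
    conv_rhs => rw [h1]
    conv_lhs => rw [h1]
    rw [hLf' l hl, hf l hl, hT])
  refine ⟨σ c, fun u v => ?_⟩
  have h1 : f' u v = c * f u v := by
    rw [hT]
    have h2 : T u = c • u := hc u
    rw [h2, map_smul, LinearMap.smul_apply, smul_eq_mul]
  rw [hf', RingEquiv.symm_apply_eq, map_mul] at h1
  exact h1

end

/-- The natural case. -/
def NatOut (K : Type*) {V : Type u} [Field K] [AddCommGroup V] [Module K V] (q n : ℕ) (H : Subgroup (Equiv.Perm V)) :
    Prop :=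
  ∃ (F : Type) (_ : Field F) (_ : Fintype F) (_ : Module F V) (φ : K →+* F) (b : ℕ),
    (∀ (c : K) (v : V), c • v = φ c • v) ∧ 2 ≤ finrank F V ∧ Fintype.card F = q ^ b ∧ finrank F V * b = n ∧
    (∀ h ∈ H, ∃ σ : F ≃+* F, ∀ (c : F) (v : V), h (c • v) = σ c • h v) ∧
    ((∀ g : V ≃ₗ[F] V, LinearEquiv.det g = 1 → ∃ h ∈ H, ∀ v, h v = g v) ∨
      (∃ f : LinearMap.BilinForm F V, f.IsAlt ∧ f.Nondegenerate ∧
        (∀ g : V ≃ₗ[F] V, (∀ u v, f (g u) (g v) = f u v) → ∃ h ∈ H, ∀ v, h v = g v) ∧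
        (∀ h ∈ H, ∀ σ : F ≃+* F, (∀ (c : F) (v : V), h (c • v) = σ c • h v) →
          ∃ μ : F, ∀ u v, f (h u) (h v) = μ * σ (f u v))) ∨
      (q % 2 = 0 ∧ finrank F V = 6 ∧ 4 ≤ Fintype.card F ∧ ∃ f : LinearMap.BilinForm F V, f.IsAlt ∧ f.Nondegenerate ∧
        (∀ h ∈ H, ∀ σ : F ≃+* F, (∀ (c : F) (v : V), h (c • v) = σ c • h v) →
          ∃ μ : F, ∀ u v, f (h u) (h v) = μ * σ (f u v)) ∧
        ∃ N : Subgroup H, N.Normal ∧ Nonempty (N ≃* Cfsg.Lie.chevG2.group F) ∧
          ∀ h ∈ N, ∀ u v, f ((h : Equiv.Perm V) u) ((h : Equiv.Perm V) v) = f u v))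

/-- The small cases. -/
def Small (q n : ℕ) {V : Type u} (H : Subgroup (Equiv.Perm V)) : Prop :=
    (n = 2 ∧ (q = 5 ∨ q = 7 ∨ q = 11 ∨ q = 23) ∧ ∃ N : Subgroup H, N.Normal ∧ Nonempty (N ≃* QuaternionGroup 2)) ∨
    (n = 2 ∧ (q = 9 ∨ q = 11 ∨ q = 19 ∨ q = 29 ∨ q = 59) ∧
      ∃ N : Subgroup H, N.Normal ∧ Nonempty (N ≃* Matrix.SpecialLinearGroup (Fin 2) (ZMod 5))) ∨
    (n = 4 ∧ q = 2 ∧ (Nonempty (H ≃* alternatingGroup (Fin 6)) ∨ Nonempty (H ≃* alternatingGroup (Fin 7)) ∨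
      Nonempty (H ≃* Matrix.symplecticGroup (Fin 2) (ZMod 2)))) ∨
    (n = 4 ∧ q = 3 ∧ ((∃ N : Subgroup H, N.Normal ∧ Nat.card N = 32 ∧ Nat.card H ∣ 32 * 120) ∨
      ∃ N : Subgroup H, N.Normal ∧ Nonempty (N ≃* Matrix.SpecialLinearGroup (Fin 2) (ZMod 5)))) ∨
    (n = 6 ∧ q = 3 ∧ Nonempty (H ≃* Matrix.SpecialLinearGroup (Fin 2) (ZMod 13))) ∨
    (n = 6 ∧ q = 2 ∧ ∃ (E : Type) (_ : Field E) (_ : Fintype E), Fintype.card E = 9 ∧
      ∃ N : Subgroup H, N.Normal ∧ Nonempty (N ≃* Cfsg.PSU 3 E 3))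

section

variable {K : Type*} {V : Type u} [Field K] [Fintype K] [AddCommGroup V] [Module K V] [Finite V]
  {H : Subgroup (Equiv.Perm V)}

variable {p : ℕ} [hp : Fact p.Prime] [Module (ZMod p) V] [Nontrivial V]

/-- the natural actions -/
theorem natAct_nat {q n : ℕ} (hq : Fintype.card K = q) (hn : Module.finrank K V = n) (hH : Semi K H) {e : ℕ}
    (he : e ≠ 0) (hqe : q = p ^ e) {L : Subgroup (V ≃ₗ[ZMod p] V)} (hnL : Nor (hH.big p) L)
    (hLr : L ≤ (emb p H hH.add).range) (hcL : ∀ s ∈ scal p K V, ∀ l ∈ L, s * l = l * s) (hN : NatAct L) :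
    NatOut K q n H := by
  classical
  obtain ⟨F, iF, iF', iM, h2, hlin, hend, hcase⟩ := hN
  obtain ⟨v0, hv0⟩ := exists_ne (0 : V)
  have hex : ∀ c : K, ∃ a : F, ∀ v : V, c • v = a • v := by
    intro c
    by_cases hc : c = 0
    · exact ⟨0, fun v => by rw [hc, zero_smul, zero_smul]⟩
    · obtain ⟨a, ha⟩ := hend ((scalHom p K V (Units.mk0 c hc) : V ≃ₗ[ZMod p] V) : V →ₗ[ZMod p] V) (by
        intro g hg v
        exact DFunLike.congr_fun (hcL _ ⟨Units.mk0 c hc, rfl⟩ g hg) v)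
      exact ⟨a, ha⟩
  choose φ hφ using hex
  have huniq : ∀ a a' : F, a • v0 = a' • v0 → a = a' := fun a a' h => smul_left_injective F hv0 h
  let Φ : K →+* F :=
    { toFun := φ
      map_one' := huniq _ _ (by rw [← hφ, one_smul, one_smul])
      map_mul' := fun x y => huniq _ _ (by rw [← hφ, mul_smul, mul_smul, ← hφ, ← hφ])
      map_zero' := huniq _ _ (by rw [← hφ, zero_smul, zero_smul])
      map_add' := fun x y => huniq _ _ (by rw [← hφ, add_smul, add_smul, ← hφ, ← hφ]) }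
  letI : Algebra K F := Φ.toAlgebra
  have hcF : Fintype.card F = q ^ finrank K F := by rw [Module.card_eq_pow_finrank (K := K) (V := F), hq]
  haveI : Module.Finite F V := Module.Finite.of_finite
  haveI : Module.Finite K V := Module.Finite.of_finite
  have hcV : Nat.card V = q ^ n := by
    rw [Module.natCard_eq_pow_finrank (K := K) (V := V), Nat.card_eq_fintype_card, hq, hn]
  have hcV' : Nat.card V = (q ^ finrank K F) ^ finrank F V := by
    rw [Module.natCard_eq_pow_finrank (K := F) (V := V), Nat.card_eq_fintype_card, hcF]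
  have hq2 : 2 ≤ q := by rw [← hq]; exact Fintype.one_lt_card
  have hab : finrank F V * finrank K F = n := by
    rw [hcV, ← pow_mul, mul_comm (finrank K F)] at hcV'
    exact (Nat.pow_right_injective hq2 hcV').symm
  have hr : ∀ g : V ≃ₗ[F] V, (∃ h ∈ L, ∀ v, h v = g v) → ∃ h ∈ H, ∀ v, h v = g v := by
    rintro g ⟨l, hl, hv⟩
    obtain ⟨x, rfl⟩ := hLr hl
    exact ⟨x, x.2, hv⟩
  have hsim : ∀ f : LinearMap.BilinForm F V, f.Nondegenerate → (∀ g ∈ L, ∀ u v, f (g u) (g v) = f u v) →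
      ∀ h ∈ H, ∀ σ : F ≃+* F, (∀ (c : F) (v : V), h (c • v) = σ c • h v) →
        ∃ μ : F, ∀ u v, f (h u) (h v) = μ * σ (f u v) := fun f hfn hf h hh σ hσ =>
    exists_semisim hnL hlin hend f hfn hf (emb p H hH.add ⟨h, hh⟩) (hH.emb_mem ⟨h, hh⟩) σ hσ
  refine ⟨F, iF, iF', iM, Φ, finrank K F, fun c v => hφ c v, h2, hcF, hab, fun h hh =>
    exists_semi hnL hlin hend (emb p H hH.add ⟨h, hh⟩) (hH.emb_mem ⟨h, hh⟩), ?_⟩
  rcases hcase with h | ⟨f, hf, hfn, h⟩ | ⟨hp2, h6, h4, ⟨eL⟩, f, hf, hfn, hfL⟩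
  · exact Or.inl fun g hg => hr g ((h g).1 hg)
  · refine Or.inr (Or.inl ⟨f, hf, hfn, fun g hg => hr g ((h g).1 hg), hsim f hfn fun g hg => ?_⟩)
    let g' : V ≃ₗ[F] V := { g.toAddEquiv with map_smul' := fun c v => hlin g hg c v }
    exact (h g').2 ⟨g, hg, fun v => rfl⟩
  · refine Or.inr (Or.inr ⟨?_, h6, h4, f, hf, hfn, hsim f hfn hfL, ?_⟩)
    · rw [hqe, hp2]
      exact Nat.mod_eq_zero_of_dvd (dvd_pow_self 2 he)
    · have hLe : (L.comap (emb p H hH.add)).map (emb p H hH.add) = L := by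
        rw [Subgroup.map_comap_eq]
        exact inf_eq_right.2 hLr
      have e1 := (L.comap (emb p H hH.add)).equivMapOfInjective (emb p H hH.add) (emb_injective p H hH.add)
      rw [hLe] at e1
      refine ⟨L.comap (emb p H hH.add), ⟨fun x hx g => ?_⟩, ⟨e1.trans eL⟩, fun x hx u v => hfL _ hx u v⟩
      rw [Subgroup.mem_comap] at hx ⊢
      rw [map_mul, map_mul, map_inv]
      exact hnL _ (hH.emb_mem g) _ hx

/-- the case of class two -/
theorem classTwo_act {q n e : ℕ} (hq : Fintype.card K = q) (hn : Module.finrank K V = n) (hn2 : 2 ≤ n)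
    (hH : Semi K H) (he : e ≠ 0) (hqe : q = p ^ e) {A : Subgroup (V ≃ₗ[ZMod p] V)} (hA : scal p K V ≤ A)
    (h : ClassTwoOut p V (hH.big p) A) : NatOut K q n H ∨ Small q n H := by
  classical
  have hd := finrank_eq (p := p) hq hn hqe
  rcases h with ⟨h3, h2, hSL, hneg⟩ | ⟨h2, hp', N, hN, hNn, ⟨eN⟩⟩ | ⟨h4, h3, hA2, hG, N, hN, hNn, hN32⟩
  · -- `|V| = 9`
    rw [h2] at hd
    have hn' : n = 2 ∧ e = 1 := by
      have : n ∣ 2 := ⟨e, by rw [hd, mul_comm]⟩
      have h5 := Nat.le_of_dvd (by norm_num) this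
      have h6 : n = 2 := by omega
      rw [h6] at hd
      omega
    obtain ⟨rfl, rfl⟩ := hn'
    subst h3
    rw [pow_one] at hqe
    subst hqe
    have hc := scal_comm (V := V) (p := 3) hq
    have hneg' : LinearEquiv.neg (ZMod 3) ∈ (emb 3 H hH.add).range := by
      have h5 : ⁅hH.big 3, hH.big 3⁆ ≤ (emb 3 H hH.add).range := by
        rw [Subgroup.commutator_le]
        intro a ha b hb
        exact hH.commutator_mem ha hb (fun s hs => hc s hs a) (fun s hs => hc s hs b)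
      exact h5 hneg
    have hbig := big_eq_of_three hH hq hneg'
    -- `K = ZMod 3`
    let Φ : K →+* ZMod 3 := (FiniteField.ringEquivOfCardEq (by rw [hq, ZMod.card]) : K ≃+* ZMod 3)
    have hΦ : ∀ (c : K) (v : V), c • v = Φ c • v := by
      intro c v
      have h5 : ∃ k : ℕ, (k : K) = c := by
        have h6 : Function.Surjective (Nat.cast : ℕ → ZMod 3) := ZMod.natCast_zmod_surjective
        obtain ⟨k, hk⟩ := h6 (Φ c)
        refine ⟨k, Φ.injective ?_⟩
        rw [map_natCast, hk]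
      obtain ⟨k, rfl⟩ := h5
      rw [map_natCast, Nat.cast_smul_eq_nsmul, Nat.cast_smul_eq_nsmul]
    refine Or.inl ⟨ZMod 3, inferInstance, inferInstance, inferInstance, Φ, 1, hΦ, h2.ge, by simp, by rw [h2],
      fun h hh => ⟨RingEquiv.refl _, fun c v => (emb 3 H hH.add ⟨h, hh⟩).map_smul c v⟩, Or.inl fun g hg => ?_⟩
    have h5 := hSL g hg
    rw [hbig] at h5
    obtain ⟨x, hx⟩ := h5
    exact ⟨x, x.2, fun v => DFunLike.congr_fun hx v⟩
  · -- `|V| = p ^ 2`
    rw [h2] at hd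
    have hn' : n = 2 ∧ e = 1 := by
      have : n ∣ 2 := ⟨e, by rw [hd, mul_comm]⟩
      have h5 := Nat.le_of_dvd (by norm_num) this
      have h6 : n = 2 := by omega
      rw [h6] at hd
      omega
    obtain ⟨rfl, rfl⟩ := hn'
    rw [pow_one] at hqe
    subst hqe
    have hc := scal_comm (V := V) hq
    have h5 : ⁅hH.big q, hH.big q⁆ ≤ (emb q H hH.add).range := by
      rw [Subgroup.commutator_le]
      intro a ha b hb
      exact hH.commutator_mem ha hb (fun s hs => hc s hs a) (fun s hs => hc s hs b)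
    obtain ⟨N', hNn', ⟨eN'⟩⟩ := exists_normal (emb q H hH.add) (emb_injective q H hH.add) hH.range_le
      (hN.trans h5) hNn
    exact Or.inr (Or.inl ⟨rfl, hp', N', hNn', ⟨eN'.trans eN⟩⟩)
  · -- `|V| = 81`
    subst h3
    have hfin : Finite (V ≃ₗ[ZMod 3] V) := finite_gl (p := 3) (V := V)
    have h5 : Nat.card (scal 3 K V) ≤ 2 := (Subgroup.card_le_of_le hA).trans hA2
    rw [card_scal, hq] at h5
    have he1 : e = 1 := by
      by_contra hne
      have h6 : 2 ≤ e := by omega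
      have h7 : 3 ^ 2 ≤ 3 ^ e := Nat.pow_le_pow_right (by norm_num) h6
      rw [← hqe] at h7
      omega
    subst he1
    rw [pow_one] at hqe
    rw [h4, one_mul] at hd
    subst hqe
    have hc := scal_comm (V := V) (p := 3) hq
    have h6 : ⁅hH.big 3, hH.big 3⁆ ≤ (emb 3 H hH.add).range := by
      rw [Subgroup.commutator_le]
      intro a ha b hb
      exact hH.commutator_mem ha hb (fun s hs => hc s hs a) (fun s hs => hc s hs b)
    obtain ⟨N', hNn', ⟨eN'⟩⟩ := exists_normal (emb 3 H hH.add) (emb_injective 3 H hH.add) hH.range_le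
      (hN.trans h6) hNn
    refine Or.inr (Or.inr (Or.inr (Or.inr (Or.inl ⟨hd.symm, rfl, Or.inl ⟨N', hNn', ?_, ?_⟩⟩))))
    · rw [Nat.card_congr eN'.toEquiv, hN32]
    · refine dvd_trans ?_ hG
      have h7 : Nat.card H = Nat.card (emb 3 H hH.add).range :=
        Nat.card_congr (MonoidHom.ofInjective (emb_injective 3 H hH.add)).toEquiv
      rw [h7]
      exact Subgroup.card_dvd_of_le hH.range_le

/-- the exceptional quasisimple groups -/
theorem excAct_act (h6 : AltSix.{u}) (h7 : AltSeven.{u}) (h13 : Thirteen.{u}) {q n e : ℕ} (hq : Fintype.card K = q)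
    (hn : Module.finrank K V = n) (hn2 : 2 ≤ n) (hH : Semi K H) (he : e ≠ 0) (hqe : q = p ^ e)
    {A L : Subgroup (V ≃ₗ[ZMod p] V)} {b : ℕ} (hP : Perf (hH.big p) A L) (hb : e ≤ b)
    (hLr : L ≤ (emb p H hH.add).range) (hAb : Nat.card A ∣ p ^ b - 1)
    (h : ExcAct p (finrank (ZMod p) V) b L) : Small q n H := by
  classical
  have hd := finrank_eq (p := p) hq hn hqe
  obtain ⟨N, hNn, ⟨eN⟩⟩ := exists_normal (emb p H hH.add) (emb_injective p H hH.add) hH.range_le hLr hP.nor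
  let eH : H ≃* (emb p H hH.add).range := MonoidHom.ofInjective (emb_injective p H hH.add)
  rcases h with ⟨h | h, ⟨eL⟩⟩ | ⟨h2, h4, hb1, h⟩ | ⟨h3, h6', hb1, ⟨eL⟩⟩ | ⟨h2, h6', hb1, E, iE, iE', hE, ⟨eL⟩⟩
  · obtain ⟨h2, hp'⟩ := h
    rw [h2] at hd
    have hn' : n = 2 ∧ e = 1 := by
      have : n ∣ 2 := ⟨e, by rw [hd, mul_comm]⟩
      have h5 := Nat.le_of_dvd (by norm_num) this
      have h6 : n = 2 := by omega
      rw [h6] at hd
      omega
    obtain ⟨rfl, rfl⟩ := hn'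
    rw [pow_one] at hqe
    subst hqe
    exact Or.inr (Or.inl ⟨rfl, Or.inr hp', N, hNn, ⟨eN.trans eL⟩⟩)
  · obtain ⟨h4, hp'⟩ := h
    subst hp'
    rw [h4] at hd
    have hn' : (n = 2 ∧ e = 2) ∨ (n = 4 ∧ e = 1) := by
      have h5 := Nat.le_of_dvd (by norm_num) (Dvd.intro_left e hd.symm : n ∣ 4)
      interval_cases n <;> omega
    rcases hn' with ⟨rfl, rfl⟩ | ⟨rfl, rfl⟩
    · exact Or.inr (Or.inl ⟨rfl, Or.inl (by rw [hqe]; norm_num), N, hNn, ⟨eN.trans eL⟩⟩)
    · exact Or.inr (Or.inr (Or.inr (Or.inl ⟨rfl, by rw [hqe]; norm_num, Or.inr ⟨N, hNn, ⟨eN.trans eL⟩⟩⟩)))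
  · subst h2
    have he1 : e = 1 := by omega
    subst he1
    rw [pow_one] at hqe
    subst hqe
    rw [h4, one_mul] at hd
    have hbig := big_eq_of_two (p := 2) hH hq
    rcases h with ⟨⟨eL⟩⟩ | ⟨⟨eL⟩⟩
    · rcases h6 2 V (hH.big 2) L hP.le hP.nor rfl h4 ⟨eL⟩ with h8 | ⟨⟨e8⟩⟩
      · rw [← h8, hbig] at eL
        exact Or.inr (Or.inr (Or.inl ⟨hd.symm, rfl, Or.inl ⟨eH.trans eL⟩⟩))
      · rw [hbig] at e8
        exact Or.inr (Or.inr (Or.inl ⟨hd.symm, rfl, Or.inr (Or.inr ⟨eH.trans e8⟩)⟩))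
    · have h8 := h7 2 V (hH.big 2) L hP.le hP.nor rfl h4 ⟨eL⟩
      rw [← h8, hbig] at eL
      exact Or.inr (Or.inr (Or.inl ⟨hd.symm, rfl, Or.inr (Or.inl ⟨eH.trans eL⟩)⟩))
  · subst h3
    have he1 : e = 1 := by omega
    subst he1
    rw [pow_one] at hqe
    subst hqe
    rw [h6', one_mul] at hd
    rw [hb1] at hAb
    have h8 := h13 3 V (hH.big 3) A L hP rfl h6' (by simpa using hAb) ⟨eL⟩
    have h9 : L = (emb 3 H hH.add).range := le_antisymm hLr (by rw [← h8]; exact hH.range_le)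
    rw [h9] at eL
    exact Or.inr (Or.inr (Or.inr (Or.inr (Or.inl ⟨hd.symm, rfl, ⟨eH.trans eL⟩⟩))))
  · subst h2
    have he1 : e = 1 := by omega
    subst he1
    rw [pow_one] at hqe
    subst hqe
    rw [h6', one_mul] at hd
    exact Or.inr (Or.inr (Or.inr (Or.inr (Or.inr ⟨hd.symm, rfl, E, iE, iE', hE, N, hNn, ⟨eN.trans eL⟩⟩))))

end

/-- **Hering's theorem, action form.** -/
theorem action_of_main (main : Main.{u}) (h6 : AltSix.{u}) (h7 : AltSeven.{u}) (h13 : Thirteen.{u})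
    {K : Type*} {V : Type u} [Field K] [Fintype K] [AddCommGroup V] [Module K V] [Finite V]
    (q n : ℕ) (hq : Fintype.card K = q) (hn : Module.finrank K V = n) (hn2 : 2 ≤ n)
    (H : Subgroup (Equiv.Perm V)) (hadd : ∀ h ∈ H, ∀ v w : V, h (v + w) = h v + h w)
    (hsemi : ∀ h ∈ H, ∃ σ : K ≃+* K, ∀ (c : K) (v : V), h (c • v) = σ c • h v)
    (htrans : ∀ v w : V, v ≠ 0 → w ≠ 0 → ∃ h ∈ H, ∃ c : K, h v = c • w) :
    ConclTwo q n H ∨ NatOut K q n H ∨ Small q n H := by
  classical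
  have hH : Semi K H := ⟨hadd, hsemi⟩
  obtain ⟨p, hp⟩ := CharP.exists K
  haveI : Fact p.Prime := ⟨CharP.char_is_prime K p⟩
  obtain ⟨e, -, he⟩ := FiniteField.card K p
  have hqe : q = p ^ (e : ℕ) := by rw [← hq, he]
  letI : Module (ZMod p) V := AddCommGroup.zmodModule (n := p) fun v => by
    rw [← Nat.cast_smul_eq_nsmul K, CharP.cast_eq_zero, zero_smul]
  haveI : Module.Finite K V := Module.Finite.of_finite
  haveI : Nontrivial V := Module.nontrivial_of_finrank_pos (R := K) (by rw [hn]; omega)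
  obtain ⟨A, hA0, hA, h⟩ := main p V (hH.big p) (scal p K V) (hH.trans htrans) hH.scal_le hH.nor_scal com_scal
  rcases h with ⟨F, iF, iF', e1, h⟩ | h | ⟨L, b, hP, -, hb, hAb, h⟩
  · refine Or.inl ⟨F, iF, iF', e1, ?_, fun x hx => h _ (hH.emb_mem ⟨x, hx⟩)⟩
    rw [← Nat.card_eq_fintype_card, ← Nat.card_congr e1.toEquiv, Module.natCard_eq_pow_finrank (K := K) (V := V),
      Nat.card_eq_fintype_card, hq, hn]
  · exact Or.inr (classTwo_act hq hn hn2 hH e.ne_zero hqe hA0 h)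
  · have hcL := comm_scal hP hA0
    have hLr := hH.perf_le hP.le hP.perf hcL
    have heb := le_of_endAlg (K := K) (hq.trans hqe) hcL hb
    rcases h with h | h
    · exact Or.inr (Or.inl (natAct_nat hq hn hH e.ne_zero hqe hP.nor hLr hcL h))
    · exact Or.inr (Or.inr (excAct_act h6 h7 h13 hq hn hn2 hH e.ne_zero hqe hP heb hLr hAb h))

end Cfsg.Agent.H667.HerFin
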