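import Mathlib
import Cfsg.Agent.Lib.ProductSet

/-!
# Groups acting 2-transitively: families of subgroups with trivial intersections, Heisenberg groups (helper667)

* `card_dvd_moved` : `D` a `G`-invariant subset, `G` 2-transitive: `n - 1` divides the number of elements of `D`
  moving `α`;
* `sub_one_dvd` : `𝒵` a `G`-invariant set of subgroups of order `q`, pairwise with trivial intersection, meeting
  the point stabilisers in subgroups of order `c`: `n - 1 ∣ |𝒵| (q - c)`;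
* `card_stab_const` : `H` transitive and normalising `Y`: the order of `Y ∩ G_α` is constant;
* `mul_dvd_card` : `|Q ∩ G_α| = k` for all `α` and `|Q| = k b`: `b ∣ n`;
* `heis_bound` : `Z ≤ Z(Q)`, `[Q, Q] ≤ Z`, `[u, Q] = Z` for `u ∉ Z`, `A ∩ Z < Z`: `|A|² |Z| ≤ |Q| |A ∩ Z|²`.
-/

set_option autoImplicit false

namespace Cfsg.Agent.H667.TwoPSUGrp

open Pointwise
open scoped commutatorElement

/-! ### Counting -/

/-- Fibres of constant cardinality. -/
theorem card_dvd_of_fibres {X Y : Type*} [Finite X] [Finite Y] (f : X → Y)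
    (h : ∀ y y' : Y, Nat.card {x // f x = y} = Nat.card {x // f x = y'}) : Nat.card Y ∣ Nat.card X := by
  classical
  have := Fintype.ofFinite Y
  have h1 : Nat.card X = ∑ y : Y, Nat.card {x // f x = y} := by
    rw [← Nat.card_sigma]
    exact Nat.card_congr (Equiv.sigmaFiberEquiv f).symm
  rcases isEmpty_or_nonempty Y with hY | ⟨⟨y⟩⟩
  · have : IsEmpty X := ⟨fun x => hY.elim (f x)⟩
    rw [Nat.card_of_isEmpty (α := X)]
    exact dvd_zero _
  · rw [h1, Finset.sum_congr rfl (fun y' _ => h y' y), Finset.sum_const, smul_eq_mul, Finset.card_univ,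
      Nat.card_eq_fintype_card]
    exact dvd_mul_right _ _

section Action

variable {G Ω : Type*} [Group G] [MulAction G Ω]

/-- `G` 2-transitive, `D` invariant under conjugation. -/
theorem card_dvd_moved [Finite G] [Finite Ω] (h2 : MulAction.IsMultiplyPretransitive G Ω 2) {D : Set G}
    (hD : ∀ g : G, ∀ z ∈ D, g * z * g⁻¹ ∈ D) (α : Ω) :
    Nat.card Ω - 1 ∣ Nat.card {z : G // z ∈ D ∧ z • α ≠ α} := by
  have hcard : Nat.card {β : Ω // β ≠ α} = Nat.card Ω - 1 := by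
    classical
    have := Fintype.ofFinite Ω
    rw [Nat.card_eq_fintype_card, Nat.card_eq_fintype_card, Fintype.card_subtype_compl,
      Fintype.card_subtype_eq]
  rw [← hcard]
  refine card_dvd_of_fibres (fun z : {z : G // z ∈ D ∧ z • α ≠ α} => (⟨z.1 • α, z.2.2⟩ : {β : Ω // β ≠ α})) ?_
  intro β β'
  obtain ⟨g, hg1, hg2⟩ : ∃ g : G, g • α = α ∧ g • β.1 = β'.1 :=
    (MulAction.is_two_pretransitive_iff.1 h2) β.2.symm β'.2.symm
  have key : ∀ (g : G) (β β' : {β : Ω // β ≠ α}), g • α = α → g • β.1 = β'.1 →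
      ∀ z : {z : {z : G // z ∈ D ∧ z • α ≠ α} // (⟨z.1 • α, z.2.2⟩ : {β : Ω // β ≠ α}) = β},
      (g * z.1.1 * g⁻¹) • α = β'.1 := by
    intro g β β' hg1 hg2 z
    have hz : z.1.1 • α = β.1 := congrArg Subtype.val z.2
    rw [mul_smul, mul_smul, inv_smul_eq_iff.2 hg1.symm, hz, hg2]
  have hg1' : g⁻¹ • α = α := inv_smul_eq_iff.2 hg1.symm
  have hg2' : g⁻¹ • β'.1 = β.1 := inv_smul_eq_iff.2 hg2.symm
  refine Nat.card_congr
    { toFun := fun z => ⟨⟨g * z.1.1 * g⁻¹, hD g _ z.1.2.1, by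
          rw [key g β β' hg1 hg2 z]; exact β'.2⟩, Subtype.ext (key g β β' hg1 hg2 z)⟩
      invFun := fun z => ⟨⟨g⁻¹ * z.1.1 * g⁻¹⁻¹, hD g⁻¹ _ z.1.2.1, by
          rw [key g⁻¹ β' β hg1' hg2' z]; exact β.2⟩, Subtype.ext (key g⁻¹ β' β hg1' hg2' z)⟩
      left_inv := fun z => by
        apply Subtype.ext; apply Subtype.ext
        change g⁻¹ * (g * z.1.1 * g⁻¹) * g⁻¹⁻¹ = z.1.1
        group
      right_inv := fun z => by
        apply Subtype.ext; apply Subtype.ext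
        change g * (g⁻¹ * z.1.1 * g⁻¹⁻¹) * g⁻¹ = z.1.1
        group }

/-- Number of elements of a subgroup which move a point. -/
theorem card_moved [Finite G] (Z : Subgroup G) (α : Ω) {q c : ℕ} (hq : Nat.card Z = q)
    (hc : Nat.card ↥(Z ⊓ MulAction.stabilizer G α) = c) :
    Nat.card {z : G // z ∈ Z ∧ z • α ≠ α} = q - c := by
  classical
  have h1 : Nat.card {z : G // z ∈ Z ∧ z • α = α} + Nat.card {z : G // z ∈ Z ∧ z • α ≠ α} = q := by
    rw [← hq, ← Nat.card_sum]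
    refine Nat.card_congr
      { toFun := Sum.elim (fun z => ⟨z.1, z.2.1⟩) (fun z => ⟨z.1, z.2.1⟩)
        invFun := fun z => if h : z.1 • α = α then Sum.inl ⟨z.1, z.2, h⟩ else Sum.inr ⟨z.1, z.2, h⟩
        left_inv := ?_
        right_inv := ?_ }
    · rintro (⟨z, hz, h⟩ | ⟨z, hz, h⟩)
      · simp [h]
      · simp [h]
    · rintro ⟨z, hz⟩
      by_cases h : z • α = α
      · simp [h]
      · simp [h]
  have h2 : Nat.card {z : G // z ∈ Z ∧ z • α = α} = c := by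
    rw [← hc]; rfl
  omega

/-- A family of subgroups with pairwise trivial intersection. -/
theorem sub_one_dvd [Finite G] [Finite Ω] (h2 : MulAction.IsMultiplyPretransitive G Ω 2)
    {𝒵 : Set (Subgroup G)} (hinv : ∀ g : G, ∀ Z ∈ 𝒵, Z.map (MulAut.conj g).toMonoidHom ∈ 𝒵) {q c : ℕ}
    (hq : ∀ Z ∈ 𝒵, Nat.card Z = q) (hint : ∀ Z ∈ 𝒵, ∀ Z' ∈ 𝒵, Z ≠ Z' → Z ⊓ Z' = ⊥) (α : Ω)
    (hc : ∀ Z ∈ 𝒵, Nat.card ↥(Z ⊓ MulAction.stabilizer G α) = c) :
    Nat.card Ω - 1 ∣ Nat.card 𝒵 * (q - c) := by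
  classical
  obtain ⟨D, hD⟩ : ∃ D : Set G, D = {z | ∃ Z ∈ 𝒵, z ∈ Z} := ⟨_, rfl⟩
  have hmem : ∀ z, z ∈ D ↔ ∃ Z ∈ 𝒵, z ∈ Z := fun z => by rw [hD]; rfl
  have h3 := card_dvd_moved h2 (D := D) (by
    intro g z hz
    obtain ⟨Z, hZ, hz⟩ := (hmem z).1 hz
    exact (hmem _).2 ⟨_, hinv g Z hZ, z, hz, rfl⟩) α
  have h4 : Nat.card {z : G // z ∈ D ∧ z • α ≠ α} = Nat.card (Σ Z : 𝒵, {z : G // z ∈ Z.1 ∧ z • α ≠ α}) := by
    symm
    let f : (Σ Z : 𝒵, {z : G // z ∈ Z.1 ∧ z • α ≠ α}) → {z : G // z ∈ D ∧ z • α ≠ α} :=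
      fun x => ⟨x.2.1, (hmem _).2 ⟨x.1.1, x.1.2, x.2.2.1⟩, x.2.2.2⟩
    refine Nat.card_eq_of_bijective f ⟨?_, ?_⟩
    · rintro ⟨⟨Z, hZ⟩, z, hz, hzα⟩ ⟨⟨Z', hZ'⟩, z', hz', hzα'⟩ h
      have h5 : z = z' := congrArg (fun w : {z : G // z ∈ D ∧ z • α ≠ α} => w.1) h
      subst h5
      have h6 : Z = Z' := by
        by_contra hne
        have h7 : z ∈ Z ⊓ Z' := ⟨hz, hz'⟩
        rw [hint Z hZ Z' hZ' hne, Subgroup.mem_bot] at h7
        exact hzα (by rw [h7, one_smul])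
      subst h6
      rfl
    · rintro ⟨z, hz, hzα⟩
      obtain ⟨Z, hZ, hz'⟩ := (hmem z).1 hz
      exact ⟨⟨⟨Z, hZ⟩, z, hz', hzα⟩, rfl⟩
  have := Fintype.ofFinite 𝒵
  have h6 : ∀ Z : 𝒵, Nat.card {z : G // z ∈ Z.1 ∧ z • α ≠ α} = q - c := fun Z =>
    card_moved Z.1 α (hq Z.1 Z.2) (hc Z.1 Z.2)
  have h5 : Nat.card (Σ Z : 𝒵, {z : G // z ∈ Z.1 ∧ z • α ≠ α}) = Nat.card 𝒵 * (q - c) := by
    calc Nat.card (Σ Z : 𝒵, {z : G // z ∈ Z.1 ∧ z • α ≠ α})
        = ∑ Z : 𝒵, Nat.card {z : G // z ∈ Z.1 ∧ z • α ≠ α} := Nat.card_sigma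
      _ = ∑ _Z : 𝒵, (q - c) := Finset.sum_congr rfl fun Z _ => h6 Z
      _ = Nat.card 𝒵 * (q - c) := by
        rw [Finset.sum_const, smul_eq_mul, Finset.card_univ, ← Nat.card_eq_fintype_card]
  rw [h4, h5] at h3
  exact h3

/-- `|Y ∩ G_α|` is constant if a transitive set of elements normalises `Y`. -/
theorem card_stab_const {Y : Subgroup G}
    (htr : ∀ α β : Ω, ∃ g : G, Y.map (MulAut.conj g).toMonoidHom = Y ∧ g • α = β) (α β : Ω) :
    Nat.card ↥(Y ⊓ MulAction.stabilizer G α) = Nat.card ↥(Y ⊓ MulAction.stabilizer G β) := by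
  obtain ⟨g, hg, rfl⟩ := htr α β
  have h1 : (Y ⊓ MulAction.stabilizer G α).map (MulAut.conj g).toMonoidHom =
      Y ⊓ MulAction.stabilizer G (g • α) := by
    rw [Subgroup.map_inf _ _ _ (MulAut.conj g).injective, hg, MulAction.stabilizer_smul_eq_stabilizer_map_conj]
  rw [← h1]
  exact Nat.card_congr ((Y ⊓ MulAction.stabilizer G α).equivMapOfInjective (MulAut.conj g).toMonoidHom
    (MulAut.conj g).injective).toEquiv

theorem card_conj_stab {Y : Subgroup G} (g : G) (α : Ω) :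
    Nat.card ↥(Y.map (MulAut.conj g).toMonoidHom ⊓ MulAction.stabilizer G (g • α)) =
      Nat.card ↥(Y ⊓ MulAction.stabilizer G α) := by
  have h1 : (Y ⊓ MulAction.stabilizer G α).map (MulAut.conj g).toMonoidHom =
      Y.map (MulAut.conj g).toMonoidHom ⊓ MulAction.stabilizer G (g • α) := by
    rw [Subgroup.map_inf _ _ _ (MulAut.conj g).injective, MulAction.stabilizer_smul_eq_stabilizer_map_conj]
  rw [← h1]
  exact (Nat.card_congr ((Y ⊓ MulAction.stabilizer G α).equivMapOfInjective (MulAut.conj g).toMonoidHom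
    (MulAut.conj g).injective).toEquiv).symm

/-- All orbits of `Q` have length `b`. -/
theorem mul_dvd_card [Finite G] [Finite Ω] {Q : Subgroup G} {k b : ℕ} (hQ : Nat.card Q = k * b) (hk : 0 < k)
    (hc : ∀ α : Ω, Nat.card ↥(Q ⊓ MulAction.stabilizer G α) = k) : b ∣ Nat.card Ω := by
  classical
  have hst : ∀ α : Ω, Nat.card ↥(MulAction.stabilizer Q α) = k := by
    intro α
    rw [← hc α]
    exact Nat.card_congr
      { toFun := fun x => ⟨x.1.1, x.1.2, x.2⟩
        invFun := fun x => ⟨⟨x.1, x.2.1⟩, x.2.2⟩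
        left_inv := fun _ => rfl
        right_inv := fun _ => rfl }
  have horb : ∀ α : Ω, Nat.card ↥(MulAction.orbit Q α) = b := by
    intro α
    have h1 := MulAction.index_stabilizer Q α
    have h2 := (MulAction.stabilizer Q α).card_mul_index
    rw [hst α, hQ, h1] at h2
    rw [← Nat.card_coe_set_eq] at h2
    exact Nat.eq_of_mul_eq_mul_left hk h2
  have := Fintype.ofFinite (MulAction.orbitRel.Quotient Q Ω)
  rw [Nat.card_congr (MulAction.selfEquivSigmaOrbits' Q Ω), Nat.card_sigma]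
  apply Finset.dvd_sum
  intro ω _
  induction ω using Quotient.inductionOn' with
  | h α =>
    rw [MulAction.orbitRel.Quotient.orbit_mk]
    exact (horb α).symm.dvd

end Action

/-! ### Heisenberg groups -/

section Heis

variable {Q : Type*} [Group Q] [Finite Q]

/-- The commutator map into a central subgroup followed by a character. -/
theorem heis_bound {Z A : Subgroup Q} (hZ : Z ≤ Subgroup.center Q) (hcomm : ∀ u v : Q, ⁅u, v⁆ ∈ Z)
    (hsurj : ∀ u, u ∉ Z → ∀ z ∈ Z, ∃ v : Q, ⁅u, v⁆ = z) (hA : ¬ Z ≤ A) :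
    Nat.card A ^ 2 * Nat.card Z ≤ Nat.card Q * Nat.card ↥(A ⊓ Z) ^ 2 := by
  classical
  have := Fintype.ofFinite Q
  have := Fintype.ofFinite A
  -- a nontrivial character of `Z` trivial on `A ∩ Z`
  obtain ⟨χ, hχA, hχ⟩ : ∃ χ : Z →* ℂˣ, (∀ z : Z, (z : Q) ∈ A → χ z = 1) ∧ ∃ z, χ z ≠ 1 := by
    let _ : CommGroup Z := { (inferInstance : Group Z) with
      mul_comm := fun a b => Subtype.ext (((Subgroup.mem_center_iff.1 (hZ a.2)) b).symm) }
    let C : Subgroup Z := A.subgroupOf Z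
    obtain ⟨z, hz, hzA⟩ := SetLike.not_le_iff_exists.1 hA
    have hz' : (QuotientGroup.mk (⟨z, hz⟩ : Z) : Z ⧸ C) ≠ 1 := by
      rw [Ne, QuotientGroup.eq_one_iff]
      exact hzA
    obtain ⟨φ, hφ⟩ := CommGroup.exists_apply_ne_one_of_hasEnoughRootsOfUnity (Z ⧸ C) ℂ hz'
    refine ⟨φ.comp (QuotientGroup.mk' C), fun w hw => ?_, ⟨z, hz⟩, hφ⟩
    have h1 : (QuotientGroup.mk' C) w = 1 := (QuotientGroup.eq_one_iff w).2 hw
    rw [MonoidHom.comp_apply, h1, map_one]
  have hcen : ∀ (z : Q), z ∈ Z → ∀ g : Q, g * z = z * g := fun z hz g => Subgroup.mem_center_iff.1 (hZ hz) g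
  have hmulr : ∀ u v w : Q, ⁅u, v * w⁆ = ⁅u, v⁆ * ⁅u, w⁆ := by
    intro u v w
    have h1 : ⁅u, v * w⁆ = ⁅u, v⁆ * (v * ⁅u, w⁆ * v⁻¹) := by simp only [commutatorElement_def]; group
    rw [h1, hcen _ (hcomm u w) v, mul_inv_cancel_right]
  have hmull : ∀ u v w : Q, ⁅u * v, w⁆ = ⁅u, w⁆ * ⁅v, w⁆ := by
    intro u v w
    have h1 : ⁅u * v, w⁆ = (u * ⁅v, w⁆ * u⁻¹) * ⁅u, w⁆ := by simp only [commutatorElement_def]; group
    rw [h1, hcen _ (hcomm v w) u, mul_inv_cancel_right, hcen _ (hcomm u w)]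
  -- the two families of characters
  let B : Q → Q → ℂ := fun u v => (χ ⟨⁅u, v⁆, hcomm u v⟩ : ℂ)
  have hB : ∀ u v, B u v = (χ ⟨⁅u, v⁆, hcomm u v⟩ : ℂ) := fun _ _ => rfl
  let R : Q → Q →* ℂ := fun u =>
    { toFun := fun v => B u v
      map_one' := by
        have h1 : (⟨⁅u, 1⁆, hcomm u 1⟩ : Z) = 1 := Subtype.ext (by simp)
        rw [hB, h1, map_one, Units.val_one]
      map_mul' := fun v w => by
        have h1 : (⟨⁅u, v * w⁆, hcomm u (v * w)⟩ : Z) = ⟨⁅u, v⁆, hcomm u v⟩ * ⟨⁅u, w⁆, hcomm u w⟩ :=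
          Subtype.ext (hmulr u v w)
        simp only [hB, h1, map_mul, Units.val_mul] }
  let L : Q → A →* ℂ := fun v =>
    { toFun := fun a => B a v
      map_one' := by
        have h1 : (⟨⁅((1 : A) : Q), v⁆, hcomm _ v⟩ : Z) = 1 := Subtype.ext (by simp)
        rw [hB, h1, map_one, Units.val_one]
      map_mul' := fun a b => by
        have h1 : (⟨⁅((a * b : A) : Q), v⁆, hcomm _ v⟩ : Z) = ⟨⁅(a : Q), v⁆, hcomm _ v⟩ * ⟨⁅(b : Q), v⁆, hcomm _ v⟩ :=
          Subtype.ext (hmull a b v)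
        simp only [hB, h1, map_mul, Units.val_mul] }
  -- row sums
  have hrow : ∀ u : Q, ∑ v : Q, B u v = if u ∈ Z then (Nat.card Q : ℂ) else 0 := by
    intro u
    by_cases hu : u ∈ Z
    · rw [if_pos hu]
      have h1 : ∀ v : Q, B u v = 1 := by
        intro v
        have h2 : (⟨⁅u, v⁆, hcomm u v⟩ : Z) = 1 := by
          apply Subtype.ext
          change ⁅u, v⁆ = 1
          rw [commutatorElement_eq_one_iff_mul_comm]
          exact (hcen u hu v).symm
        rw [hB, h2, map_one, Units.val_one]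
      rw [Finset.sum_congr rfl (fun v _ => h1 v), Finset.sum_const, Finset.card_univ, nsmul_eq_mul, mul_one,
        Nat.card_eq_fintype_card]
    · rw [if_neg hu]
      obtain ⟨z, hz⟩ := hχ
      obtain ⟨v, hv⟩ := hsurj u hu z z.2
      have hR : R u ≠ 1 := by
        intro h
        have h1 : B u v = 1 := DFunLike.congr_fun h v
        have h2 : (⟨⁅u, v⁆, hcomm u v⟩ : Z) = z := Subtype.ext hv
        rw [hB, h2] at h1
        exact hz (Units.ext h1)
      exact sum_hom_units_eq_zero (R u) hR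
  -- column sums
  let P : Q → Prop := fun v => ∀ a ∈ A, B a v = 1
  have hcol : ∀ v : Q, ∑ a : A, B a v = if P v then (Nat.card A : ℂ) else 0 := by
    intro v
    by_cases hv : P v
    · rw [if_pos hv, Finset.sum_congr rfl (fun (a : A) _ => hv (a : Q) a.2), Finset.sum_const, Finset.card_univ,
        nsmul_eq_mul, mul_one, Nat.card_eq_fintype_card]
    · rw [if_neg hv]
      have hL : L v ≠ 1 := by
        intro h
        apply hv
        intro a ha
        exact DFunLike.congr_fun h ⟨a, ha⟩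
      exact sum_hom_units_eq_zero (L v) hL
  have hS1 : ∑ a : A, ∑ v : Q, B a v = (Nat.card ↥(A ⊓ Z) : ℂ) * Nat.card Q := by
    rw [Finset.sum_congr rfl (fun (a : A) _ => hrow (a : Q)), ← Finset.sum_filter, Finset.sum_const, nsmul_eq_mul]
    congr 2
    rw [← Fintype.card_subtype, ← Nat.card_eq_fintype_card]
    exact Nat.card_congr
      { toFun := fun x => ⟨x.1.1, x.1.2, x.2⟩
        invFun := fun x => ⟨⟨x.1, x.2.1⟩, x.2.2⟩
        left_inv := fun _ => rfl
        right_inv := fun _ => rfl }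
  have hS2 : ∑ a : A, ∑ v : Q, B a v = (Nat.card {v // P v} : ℂ) * Nat.card A := by
    rw [Finset.sum_comm, Finset.sum_congr rfl (fun (v : Q) _ => hcol v), ← Finset.sum_filter, Finset.sum_const,
      nsmul_eq_mul]
    congr 2
    rw [← Fintype.card_subtype, ← Nat.card_eq_fintype_card]
  have hS : Nat.card ↥(A ⊓ Z) * Nat.card Q = Nat.card {v // P v} * Nat.card A := by
    have := hS1.symm.trans hS2
    exact_mod_cast this
  -- `A Z` is contained in the orthogonal set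
  have hle : Nat.card ((A : Set Q) * (Z : Set Q) : Set Q) ≤ Nat.card {v // P v} := by
    refine Nat.card_le_card_of_injective (fun x => ⟨x.1, ?_⟩) ?_
    · obtain ⟨x, a, ha, z, hz, rfl⟩ := x
      intro b hb
      have h2 : (⟨⁅b, a * z⁆, hcomm b (a * z)⟩ : Z) = ⟨⁅b, a⁆, hcomm b a⟩ := by
        apply Subtype.ext
        change ⁅b, a * z⁆ = ⁅b, a⁆
        rw [hmulr, commutatorElement_eq_one_iff_mul_comm.2 (hcen z hz b), mul_one]
      rw [hB, h2, hχA, Units.val_one]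
      exact A.mul_mem (A.mul_mem (A.mul_mem hb ha) (A.inv_mem hb)) (A.inv_mem ha)
    · intro x y h
      exact Subtype.ext (congrArg (fun w : {v // P v} => w.1) h)
  have hprod := Cfsg.Agent.Lib.ProductSet.card_mul_card_inf A Z
  calc Nat.card A ^ 2 * Nat.card Z = Nat.card A * (Nat.card A * Nat.card Z) := by ring
    _ = Nat.card A * (Nat.card ((A : Set Q) * (Z : Set Q) : Set Q) * Nat.card ↥(A ⊓ Z)) := by rw [hprod]
    _ ≤ Nat.card A * (Nat.card {v // P v} * Nat.card ↥(A ⊓ Z)) :=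
        Nat.mul_le_mul_left _ (Nat.mul_le_mul_right _ hle)
    _ = (Nat.card {v // P v} * Nat.card A) * Nat.card ↥(A ⊓ Z) := by ring
    _ = (Nat.card ↥(A ⊓ Z) * Nat.card Q) * Nat.card ↥(A ⊓ Z) := by rw [hS]
    _ = Nat.card Q * Nat.card ↥(A ⊓ Z) ^ 2 := by ring

end Heis

end Cfsg.Agent.H667.TwoPSUGrp
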