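import Cfsg.Agent.H667.TwoPSUModel

/-!
# Subgroups of prime power order normalising the Heisenberg group of `PSU_n(q)` (helper667)

`exists_group` : for `n ≥ 3`, `(n, q) ≠ (3, 2)`, there is a frame `e, f` and an `r`-subgroup `D` (`r` prime, `r` divides
`q ^ 2 - 1`) normalising `Q = QQ e` such that every `y ∈ Q ∖ RR e` does not commute with some `y ^ g`, `g ∈ D`.
Hence an abelian `D`-invariant subgroup of `Q` lies in `RR e`.
-/

set_option autoImplicit false

namespace Cfsg.Agent.H667.TwoPSUFix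

open Cfsg Cfsg.Agent.LieClassical.HermBasic Cfsg.Agent.LieClassical.HermSiegel
  Cfsg.Agent.LieClassical.HermGen Cfsg.Agent.LieClassical.SUBasic Cfsg.Agent.ClassicalGeometry.PSUAutBasic
  Cfsg.Agent.ClassicalGeometry.PSUAutSylow Cfsg.Agent.ClassicalGeometry.PSUAutUnip Cfsg.Agent.H934.IdxPSU Matrix
  Cfsg.Agent.H667.TwoPSUModel
open scoped commutatorElement

variable {F : Type*} [Field F] [Fintype F] {q n : ℕ}

/-! ### Conjugation of Siegel elements by elements normalising `⟨e⟩` -/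

omit [Fintype F] in
theorem isSiegel_map {e w : Fin n → F} {μ t : F} (h : IsSiegel q e w μ) (g : SU n F q)
    (ht0 : t ≠ 0) (ht : act g e = t • e) : IsSiegel q e (act g w) μ := by
  have h1 := h.map g
  refine ⟨h.iso, ?_, h1.tr⟩
  have h2 := h1.orth
  rw [ht, herm_smul_right] at h2
  exact (mul_eq_zero.1 h2).resolve_left (pow_ne_zero _ ht0)

theorem conj_siegel' (hF : Fintype.card F = q ^ 2) {e w : Fin n → F} {μ t : F} (h : IsSiegel q e w μ) (g : SU n F q)
    (ht0 : t ≠ 0) (ht : act g e = t • e) :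
    g * siegel hF e w μ h * g⁻¹ =
      siegel hF e (t ^ q • act g w) (t * t ^ q * μ) ((isSiegel_map h g ht0 ht).smul' hF) := by
  rw [conj_siegel, siegel_congr hF (h.map g) (isSiegel_map h g ht0 ht).smul ht rfl rfl,
    siegel_smul hF (isSiegel_map h g ht0 ht)]

theorem comm_ne (hF : Fintype.card F = q ^ 2) (hn : 3 ≤ n) {e w : Fin n → F} {μ t : F} (he0 : e ≠ 0)
    (h : IsSiegel q e w μ) (g : SU n F q) (ht0 : t ≠ 0) (ht : act g e = t • e)
    (hX : (t * hermForm n F q w (act g w)) ^ q ≠ t * hermForm n F q w (act g w)) :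
    ⁅pr n F q (siegel hF e w μ h), pr n F q g * pr n F q (siegel hF e w μ h) * (pr n F q g)⁻¹⁆ ≠ 1 := by
  intro hc
  rw [← map_inv, ← map_mul, ← map_mul, conj_siegel' hF h g ht0 ht, ← map_commutatorElement, commutatorElement_def,
    siegel_comm hF h _ (trace_zero_sub hF _ _) rfl] at hc
  have h0 : (0 : F) + 0 ^ q = 0 := by rw [zero_pow_q hF, add_zero]
  have h1 : transv hF e h.iso 0 h0 = 1 := transv_zero hF h.iso _
  rw [← map_one (pr n F q), ← h1] at hc
  have h2 := transv_inj hF he0 h.iso (trace_zero_sub hF _ _) h0 (siegel_pr_inj hF hn _ _ hc)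
  apply hX
  rw [herm_smul_right, herm_smul_left, pow_q_pow_q hF] at h2
  have h3 : (hermForm n F q w (act g w)) ^ q = hermForm n F q (act g w) w := (herm_swap hF _ _).symm
  rw [mul_pow, h3]
  linear_combination -h2

/-- From a subgroup of `SU` to the statement on `PSU`. -/
theorem of_SU (hF : Fintype.card F = q ^ 2) (hn : 3 ≤ n) {e f : Fin n → F} (H : IsFrame q e f) {r : ℕ}
    {D : Subgroup (SU n F q)} (hD : IsPGroup r D) (hDe : ∀ g ∈ D, ∃ t : F, t ≠ 0 ∧ act g e = t • e)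
    (hstar : ∀ w ∈ coordSub F n (n - 2), w ≠ 0 → ∃ g ∈ D, ∃ t : F, t ≠ 0 ∧ act g e = t • e ∧
      (t * hermForm n F q w (act g w)) ^ q ≠ t * hermForm n F q w (act g w)) :
    IsPGroup r (D.map (pr n F q)) ∧
      (∀ g ∈ D.map (pr n F q), ∀ x ∈ QQ hF e H.ee, g * x * g⁻¹ ∈ QQ hF e H.ee) ∧
      ∀ y ∈ QQ hF e H.ee, y ∉ RR hF e H.ee → ∃ g ∈ D.map (pr n F q), ⁅y, g * y * g⁻¹⁆ ≠ 1 := by
  have he0 : e ≠ 0 := by
    rintro rfl
    have := H.ef
    rw [herm_zero_left] at this
    exact zero_ne_one this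
  refine ⟨hD.map _, ?_, ?_⟩
  · rintro _ ⟨g, hg, rfl⟩ x hx
    obtain ⟨w, μ, h, rfl⟩ := mem_QQ.1 hx
    obtain ⟨t, ht0, ht⟩ := hDe g hg
    rw [← map_inv, ← map_mul, ← map_mul, conj_siegel' hF h g ht0 ht]
    exact mem_QQ.2 ⟨_, _, _, rfl⟩
  · intro y hy hyR
    obtain ⟨w, μ, h, rfl⟩ := mem_QQ.1 hy
    obtain ⟨w', a, hw', h', he⟩ := exists_normal hF H h
    rw [he] at hyR ⊢
    have hw0 : w' ≠ 0 := by
      rintro rfl
      exact hyR (mem_RR.2 ⟨a, by have := h'.tr; rwa [herm_zero_left, add_zero] at this, rfl⟩)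
    obtain ⟨g, hg, t, ht0, ht, hX⟩ := hstar w' hw' hw0
    exact ⟨pr n F q g, ⟨g, hg, rfl⟩, comm_ne hF hn he0 h' g ht0 ht hX⟩

/-! ### Elements of prime power order of the field -/

theorem exists_unit (hF : Fintype.card F = q ^ 2) {N M : ℕ} (hN : N ∣ q ^ 2 - 1) (hM : ¬ N ∣ M) :
    ∃ (r k : ℕ) (u : F), r.Prime ∧ r ∣ q ^ 2 - 1 ∧ u ^ r ^ k = 1 ∧ u ^ N = 1 ∧ u ^ M ≠ 1 := by
  rw [Nat.dvd_iff_prime_pow_dvd_dvd] at hM
  push Not at hM
  obtain ⟨r, k, hr, h1, h2⟩ := hM
  have hk : k ≠ 0 := by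
    rintro rfl
    exact h2 (one_dvd _)
  obtain ⟨g, hg⟩ := IsCyclic.exists_ofOrder_eq_natCard (α := Fˣ)
  have hc : Nat.card Fˣ = q ^ 2 - 1 := by rw [Nat.card_units, Nat.card_eq_fintype_card, hF]
  have hd : r ^ k ∣ orderOf g := by rw [hg, hc]; exact h1.trans hN
  have ho := orderOf_pow_orderOf_div (orderOf_pos g).ne' hd
  obtain ⟨u, hu⟩ : ∃ u : Fˣ, orderOf u = r ^ k := ⟨_, ho⟩
  refine ⟨r, k, u, hr, (dvd_pow_self r hk).trans (h1.trans hN), ?_, ?_, ?_⟩
  · rw [← Units.val_pow_eq_pow_val, ← hu, pow_orderOf_eq_one, Units.val_one]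
  · rw [← Units.val_pow_eq_pow_val, orderOf_dvd_iff_pow_eq_one.1 (hu ▸ h1), Units.val_one]
  · intro h
    rw [← Units.val_pow_eq_pow_val, Units.val_eq_one] at h
    exact h2 (hu ▸ orderOf_dvd_of_pow_eq_one h)

/-! ### Diagonal elements -/

omit [Fintype F] in
theorem mulVec_diag (ζ x : Fin n → F) : Matrix.diagonal ζ *ᵥ x = ζ * x := by
  funext i
  rw [Matrix.mulVec_diagonal]
  rfl

omit [Fintype F] in
theorem exists_diag {ζ : Fin n → F} (h1 : ∀ i, ζ i ^ (q + 1) = 1) (h2 : ∏ i, ζ i = 1) :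
    ∃ g : SU n F q, ∀ v, act g v = ζ * v := by
  refine ⟨mkSU (Matrix.diagonal ζ) (by rw [Matrix.det_diagonal, h2]) ?_, fun v => mulVec_diag ζ v⟩
  intro u v
  rw [mulVec_diag, mulVec_diag, herm_def, herm_def]
  refine Finset.sum_congr rfl fun i _ => ?_
  rw [Pi.mul_apply, Pi.mul_apply, mul_pow]
  have h3 := h1 i
  rw [pow_succ] at h3
  linear_combination (u i * v i ^ q) * h3

/-- The diagonal elements with entries of order dividing `m`, equal on the last two places. -/
def DG (F : Type*) [Field F] [Fintype F] (q n m : ℕ) (hm : m ≠ 0) : Subgroup (SU n F q) where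
  carrier := {g | ∃ ζ : Fin n → F, (∀ i, ζ i ^ m = 1) ∧
    (∀ i j : Fin n, n - 2 ≤ i.val → n - 2 ≤ j.val → ζ i = ζ j) ∧ ∀ v, act g v = ζ * v}
  one_mem' := ⟨1, fun i => one_pow m, fun _ _ _ _ => rfl, fun v => by rw [act_one, one_mul]⟩
  mul_mem' := by
    rintro g g' ⟨ζ, h1, h2, h3⟩ ⟨ζ', h1', h2', h3'⟩
    refine ⟨ζ * ζ', fun i => ?_, fun i j hi hj => ?_, fun v => ?_⟩
    · rw [Pi.mul_apply, mul_pow, h1, h1', one_mul]
    · rw [Pi.mul_apply, Pi.mul_apply, h2 i j hi hj, h2' i j hi hj]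
    · rw [act_mul, h3', h3, mul_assoc]
  inv_mem' := by
    rintro g ⟨ζ, h1, h2, h3⟩
    have h0 : ∀ i, ζ i ≠ 0 := by
      intro i hi
      have := h1 i
      rw [hi, zero_pow hm] at this
      exact zero_ne_one this
    refine ⟨ζ⁻¹, fun i => ?_, fun i j hi hj => ?_, fun v => ?_⟩
    · rw [Pi.inv_apply, inv_pow, h1, inv_one]
    · rw [Pi.inv_apply, Pi.inv_apply, h2 i j hi hj]
    · symm
      rw [← act_eq_iff, h3]
      funext i
      simp only [Pi.mul_apply, Pi.inv_apply]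
      rw [mul_inv_cancel_left₀ (h0 i)]

theorem isPGroup_DG {r k : ℕ} (hm : r ^ k ≠ 0) : IsPGroup r (DG F q n (r ^ k) hm) := by
  rintro ⟨g, ζ, h1, h2, h3⟩
  refine ⟨k, Subtype.ext ?_⟩
  have h4 : ∀ j : ℕ, ∀ v, act (g ^ j) v = ζ ^ j * v := by
    intro j
    induction j with
    | zero => intro v; rw [pow_zero, pow_zero, act_one, one_mul]
    | succ j ih => intro v; rw [pow_succ, act_mul, h3, ih, pow_succ, mul_assoc]
  apply ext_act
  intro v
  change act (g ^ r ^ k) v = act 1 v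
  rw [h4, act_one]
  funext i
  rw [Pi.mul_apply, Pi.pow_apply, h1, one_mul]

theorem frame_apply (hF : Fintype.card F = q ^ 2) {e f : Fin n → F} (H : IsFrame q e f) {i : Fin n}
    (hi : i.val < n - 2) : e i = 0 := by
  have h1 := ((H.mem _).1 (single_mem_coordSub hi 1)).1
  have h2 := herm_eq_zero_swap hF h1
  rwa [herm_single_right hF, one_pow, mul_one] at h2

theorem act_frame (hF : Fintype.card F = q ^ 2) (hn : 3 ≤ n) {e f : Fin n → F} (H : IsFrame q e f)
    {ζ : Fin n → F} (h2 : ∀ i j : Fin n, n - 2 ≤ i.val → n - 2 ≤ j.val → ζ i = ζ j) {g : SU n F q}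
    (h3 : ∀ v, act g v = ζ * v) : act g e = ζ ⟨n - 1, by omega⟩ • e := by
  rw [h3]
  funext i
  rw [Pi.mul_apply, Pi.smul_apply, smul_eq_mul]
  rcases lt_or_ge i.val (n - 2) with hi | hi
  · rw [frame_apply hF H hi, mul_zero, mul_zero]
  · rw [h2 i ⟨n - 1, by omega⟩ hi (by simp; omega)]

theorem form_diag (hF : Fintype.card F = q ^ 2) {ζ : Fin n → F} (hζ : ∀ i, ζ i ^ (q + 1) = 1) {g : SU n F q}
    (hg : ∀ v, act g v = ζ * v) {t : F} (ht : t ^ (q + 1) = 1) (w : Fin n → F) :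
    (t * hermForm n F q w (act g w)) ^ q - t * hermForm n F q w (act g w) =
      ∑ i, (w i * w i ^ q) * (t⁻¹ * ζ i - t * (ζ i)⁻¹) := by
  have hinv : ∀ x : F, x ^ (q + 1) = 1 → x ^ q = x⁻¹ := by
    intro x hx
    rw [pow_succ] at hx
    exact eq_inv_of_mul_eq_one_left hx
  rw [mul_pow, ← herm_swap hF, hg, herm_def, herm_def, hinv t ht, Finset.mul_sum, Finset.mul_sum,
    ← Finset.sum_sub_distrib]
  refine Finset.sum_congr rfl fun i _ => ?_
  rw [Pi.mul_apply, mul_pow, hinv _ (hζ i)]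
  ring

/-- A diagonal element of `SU_n` with three prescribed entries. -/
theorem triple (hF : Fintype.card F = q ^ 2) (hn : 3 ≤ n) {e f : Fin n → F} (H : IsFrame q e f) {m : ℕ} (hm : m ≠ 0)
    {w : Fin n → F}
    (hcon : ∀ g ∈ DG F q n m hm, ∀ t : F, t ≠ 0 → act g e = t • e →
      (t * hermForm n F q w (act g w)) ^ q = t * hermForm n F q w (act g w))
    {i j k : Fin n} (hi : i.val < n - 2) (hj : j.val < n - 2) (hk : k.val < n - 2) (hij : i ≠ j) (hik : i ≠ k)
    (hjk : j ≠ k) {a b c : F} (ha : a ^ m = 1) (ha' : a ^ (q + 1) = 1) (hb : b ^ m = 1) (hb' : b ^ (q + 1) = 1)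
    (hc : c ^ m = 1) (hc' : c ^ (q + 1) = 1) (habc : a * b * c = 1) :
    (w i * w i ^ q) * (a - a⁻¹) + (w j * w j ^ q) * (b - b⁻¹) + (w k * w k ^ q) * (c - c⁻¹) = 0 := by
  classical
  obtain ⟨ζ, hζ⟩ : ∃ ζ : Fin n → F, ζ = fun l => (if l = i then a else 1) * (if l = j then b else 1) *
    (if l = k then c else 1) := ⟨_, rfl⟩
  have h1 : ∀ N : ℕ, a ^ N = 1 → b ^ N = 1 → c ^ N = 1 → ∀ l, ζ l ^ N = 1 := by
    intro N haN hbN hcN l
    rw [hζ]
    simp only [mul_pow]
    have h5 : ∀ (P : Prop) [Decidable P] (x : F), x ^ N = 1 → (if P then x else 1) ^ N = 1 := by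
      intro P _ x hx
      split_ifs
      · exact hx
      · exact one_pow N
    rw [h5 _ _ haN, h5 _ _ hbN, h5 _ _ hcN, one_mul, one_mul]
  have h2 : ∏ l, ζ l = 1 := by
    rw [hζ]
    simp only [Finset.prod_mul_distrib, Finset.prod_ite_eq', Finset.mem_univ, if_true]
    exact habc
  have hlast : ∀ l : Fin n, n - 2 ≤ l.val → ζ l = 1 := by
    intro l hl
    have e1 : l ≠ i := by rintro rfl; omega
    have e2 : l ≠ j := by rintro rfl; omega
    have e3 : l ≠ k := by rintro rfl; omega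
    rw [hζ]
    simp only [if_neg e1, if_neg e2, if_neg e3, mul_one]
  obtain ⟨g, hg⟩ := exists_diag (h1 _ ha' hb' hc') h2
  have h4 : ∀ i j : Fin n, n - 2 ≤ i.val → n - 2 ≤ j.val → ζ i = ζ j := fun i j hi hj => by
    rw [hlast i hi, hlast j hj]
  have hge : act g e = (1 : F) • e := by
    rw [act_frame hF hn H h4 hg, hlast _ (by simp; omega)]
  have h5 := hcon g ⟨ζ, h1 _ ha hb hc, h4, hg⟩ 1 one_ne_zero hge
  have h6 := form_diag hF (h1 _ ha' hb' hc') hg (one_pow _) w
  rw [h5, sub_self] at h6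
  have h7 : ∀ l, (w l * w l ^ q) * ((1 : F)⁻¹ * ζ l - 1 * (ζ l)⁻¹) =
      (if l = i then (w i * w i ^ q) * (a - a⁻¹) else 0) + (if l = j then (w j * w j ^ q) * (b - b⁻¹) else 0) +
      (if l = k then (w k * w k ^ q) * (c - c⁻¹) else 0) := by
    intro l
    rw [hζ, inv_one, one_mul, one_mul]
    by_cases e1 : l = i
    · subst e1
      simp [hij, hik]
    by_cases e2 : l = j
    · subst e2
      simp [e1, hjk]
    by_cases e3 : l = k
    · subst e3
      simp [e1, e2]
    simp [e1, e2, e3]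
  rw [Finset.sum_congr rfl fun l _ => h7 l, Finset.sum_add_distrib, Finset.sum_add_distrib, Finset.sum_ite_eq',
    Finset.sum_ite_eq', Finset.sum_ite_eq', if_pos (Finset.mem_univ _), if_pos (Finset.mem_univ _),
    if_pos (Finset.mem_univ _)] at h6
  exact h6.symm

omit [Fintype F] in
theorem norm_eq_zero (hq : q ≠ 0) {x : F} (h : x * x ^ q = 0) : x = 0 := by
  rcases mul_eq_zero.1 h with h | h
  · exact h
  · exact (pow_eq_zero_iff hq).1 h

/-- The conclusion, for a given frame. -/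
def Good (F : Type*) [Field F] [Fintype F] (q n : ℕ) (e : Fin n → F) : Prop :=
  ∃ r : ℕ, r.Prime ∧ r ∣ q ^ 2 - 1 ∧ ∃ D : Subgroup (SU n F q), IsPGroup r D ∧
    (∀ g ∈ D, ∃ t : F, t ≠ 0 ∧ act g e = t • e) ∧
    ∀ w ∈ coordSub F n (n - 2), w ≠ 0 → ∃ g ∈ D, ∃ t : F, t ≠ 0 ∧ act g e = t • e ∧
      (t * hermForm n F q w (act g w)) ^ q ≠ t * hermForm n F q w (act g w)

theorem DG_frame (hF : Fintype.card F = q ^ 2) (hn : 3 ≤ n) {e f : Fin n → F} (H : IsFrame q e f) {m : ℕ} (hm : m ≠ 0) :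
    ∀ g ∈ DG F q n m hm, ∃ t : F, t ≠ 0 ∧ act g e = t • e := by
  rintro g ⟨ζ, h1, h2, h3⟩
  refine ⟨_, ?_, act_frame hF hn H h2 h3⟩
  intro h
  have h4 := h1 ⟨n - 1, by omega⟩
  rw [h, zero_pow hm] at h4
  exact zero_ne_one h4

theorem succ_dvd (hF : Fintype.card F = q ^ 2) : q + 1 ∣ q ^ 2 - 1 := by
  have hq := two_le hF
  refine ⟨q - 1, ?_⟩
  obtain ⟨m, rfl⟩ : ∃ m, q = m + 1 := ⟨q - 1, by omega⟩
  simp only [Nat.add_sub_cancel]
  rw [Nat.sub_eq_iff_eq_add (Nat.one_le_pow _ _ (by omega))]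
  ring

theorem good_five (hF : Fintype.card F = q ^ 2) (hn : 5 ≤ n) {e f : Fin n → F} (H : IsFrame q e f) :
    Good F q n e := by
  have hq := two_le hF
  obtain ⟨r, k, u, hr, hrd, hu1, hu2, hu3⟩ := exists_unit (F := F) hF (N := q + 1) (M := 2) (succ_dvd hF)
    (fun h => by have := Nat.le_of_dvd (by norm_num) h; omega)
  have hm : r ^ k ≠ 0 := pow_ne_zero _ hr.ne_zero
  have hu0 : u ≠ 0 := by
    rintro rfl
    rw [zero_pow (by omega)] at hu2
    exact zero_ne_one hu2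
  refine ⟨r, hr, hrd, DG F q n (r ^ k) hm, isPGroup_DG hm, DG_frame hF (by omega) H hm, ?_⟩
  intro w hw hw0
  by_contra hcon
  push Not at hcon
  obtain ⟨i, hi⟩ : ∃ i, w i ≠ 0 := by
    by_contra h
    push Not at h
    exact hw0 (funext h)
  have hi' : i.val < n - 2 := by
    by_contra h
    exact hi (hw i (by omega))
  obtain ⟨j, k', hj, hk, hij, hik, hjk⟩ : ∃ j k : Fin n, j.val < n - 2 ∧ k.val < n - 2 ∧ i ≠ j ∧ i ≠ k ∧ j ≠ k := by
    rcases (by omega : i.val = 0 ∨ i.val = 1 ∨ 2 ≤ i.val) with h | h | h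
    · refine ⟨⟨1, by omega⟩, ⟨2, by omega⟩, by simp; omega, by simp; omega, ?_, ?_, by simp⟩
      · intro h'; rw [h'] at h; simp at h
      · intro h'; rw [h'] at h; simp at h
    · refine ⟨⟨0, by omega⟩, ⟨2, by omega⟩, by simp; omega, by simp; omega, ?_, ?_, by simp⟩
      · intro h'; rw [h'] at h; simp at h
      · intro h'; rw [h'] at h; simp at h
    · refine ⟨⟨0, by omega⟩, ⟨1, by omega⟩, by simp; omega, by simp; omega, ?_, ?_, by simp⟩
      · intro h'; rw [h'] at h; simp at h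
      · intro h'; rw [h'] at h; simp at h
  have hui1 : (u⁻¹) ^ r ^ k = 1 := by rw [inv_pow, hu1, inv_one]
  have hui2 : (u⁻¹) ^ (q + 1) = 1 := by rw [inv_pow, hu2, inv_one]
  have huu : u - u⁻¹ ≠ 0 := by
    intro h
    apply hu3
    field_simp at h
    linear_combination h
  have t1 := triple hF (by omega) H hm hcon hi' hj hk hij hik hjk hu1 hu2 hui1 hui2 (one_pow _) (one_pow _)
    (by field_simp)
  have t2 := triple hF (by omega) H hm hcon hi' hj hk hij hik hjk hu1 hu2 (one_pow _) (one_pow _) hui1 hui2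
    (by field_simp)
  have t3 := triple hF (by omega) H hm hcon hi' hj hk hij hik hjk hu1 hu2 hu1 hu2
    (c := u⁻¹ * u⁻¹) (by rw [mul_pow, hui1, one_mul]) (by rw [mul_pow, hui2, one_mul]) (by field_simp)
  simp only [inv_inv, inv_one, sub_self, mul_zero, add_zero, mul_inv] at t1 t2 t3
  have s1 : w j * w j ^ q = w i * w i ^ q := by
    apply mul_right_cancel₀ huu
    linear_combination -t1
  have s2 : w k' * w k' ^ q = w i * w i ^ q := by
    apply mul_right_cancel₀ huu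
    linear_combination -t2
  rw [s1, s2] at t3
  have h3 : (w i * w i ^ q) * ((u - u⁻¹) * (2 - u - u⁻¹)) = 0 := by
    linear_combination t3
  have h4 : (2 - u - u⁻¹ : F) ≠ 0 := by
    intro h
    have h5 : (u - 1) * (u - 1) = 0 := by
      have h6 : u * (2 - u - u⁻¹) = 0 := by rw [h, mul_zero]
      rw [mul_sub, mul_inv_cancel₀ hu0] at h6
      linear_combination -h6
    have h7 : u = 1 := sub_eq_zero.1 (mul_self_eq_zero.1 h5)
    rw [h7, one_pow] at hu3
    exact hu3 rfl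
  have h5 := (mul_eq_zero.1 h3).resolve_right (mul_ne_zero huu h4)
  exact hi (norm_eq_zero (by omega) h5)

theorem good_four (hF : Fintype.card F = q ^ 2) {e f : Fin 4 → F} (H : IsFrame q e f) (h8 : ¬ q + 1 ∣ 8) :
    Good F q 4 e := by
  classical
  have hq := two_le hF
  obtain ⟨r, k, u, hr, hrd, hu1, hu2, hu3⟩ := exists_unit (F := F) hF (N := q + 1) (M := 8) (succ_dvd hF) h8
  have hm : r ^ k ≠ 0 := pow_ne_zero _ hr.ne_zero
  have hu0 : u ≠ 0 := by
    rintro rfl
    rw [zero_pow (by omega)] at hu2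
    exact zero_ne_one hu2
  refine ⟨r, hr, hrd, DG F q 4 (r ^ k) hm, isPGroup_DG hm, DG_frame hF (by omega) H hm, ?_⟩
  intro w hw hw0
  by_contra hcon
  push Not at hcon
  obtain ⟨i, hi⟩ : ∃ i, w i ≠ 0 := by
    by_contra h
    push Not at h
    exact hw0 (funext h)
  have hi' : i.val < 4 - 2 := by
    by_contra h
    exact hi (hw i (by omega))
  obtain ⟨ζ, hζ⟩ : ∃ ζ : Fin 4 → F, ζ = fun l => u * (if l = i then (u ^ 4)⁻¹ else 1) := ⟨_, rfl⟩
  have h1 : ∀ N : ℕ, u ^ N = 1 → ∀ l, ζ l ^ N = 1 := by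
    intro N hN l
    rw [hζ]
    simp only [mul_pow, hN, one_mul]
    split_ifs
    · rw [inv_pow, ← pow_mul, mul_comm, pow_mul, hN, one_pow, inv_one]
    · exact one_pow N
  have h2 : ∏ l, ζ l = 1 := by
    rw [hζ]
    simp only [Finset.prod_mul_distrib, Finset.prod_ite_eq', Finset.mem_univ, if_true, Finset.prod_const,
      Finset.card_univ, Fintype.card_fin]
    exact mul_inv_cancel₀ (pow_ne_zero _ hu0)
  have hlast : ∀ l : Fin 4, 4 - 2 ≤ l.val → ζ l = u := by
    intro l hl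
    have e1 : l ≠ i := by rintro rfl; omega
    rw [hζ]
    simp only [if_neg e1, mul_one]
  obtain ⟨g, hg⟩ := exists_diag (h1 _ hu2) h2
  have h4 : ∀ i j : Fin 4, 4 - 2 ≤ i.val → 4 - 2 ≤ j.val → ζ i = ζ j := fun i j hi hj => by
    rw [hlast i hi, hlast j hj]
  have hge : act g e = u • e := by
    rw [act_frame hF (by norm_num) H h4 hg, hlast _ (by simp)]
  have h5 := hcon g ⟨ζ, h1 _ hu1, h4, hg⟩ u hu0 hge
  have h6 := form_diag hF (h1 _ hu2) hg hu2 w
  rw [h5, sub_self] at h6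
  have h7 : ∀ l, (w l * w l ^ q) * (u⁻¹ * ζ l - u * (ζ l)⁻¹) =
      (if l = i then (w i * w i ^ q) * ((u ^ 4)⁻¹ - u ^ 4) else 0) := by
    intro l
    rw [hζ]
    by_cases e1 : l = i
    · subst e1
      simp only [if_true]
      field_simp
    · simp [e1, hu0]
  rw [Finset.sum_congr rfl fun l _ => h7 l, Finset.sum_ite_eq', if_pos (Finset.mem_univ _)] at h6
  have h8' : (u ^ 4)⁻¹ - u ^ 4 ≠ 0 := by
    intro h
    apply hu3
    field_simp at h
    linear_combination -h
  exact hi (norm_eq_zero (by omega) ((mul_eq_zero.1 h6.symm).resolve_right h8'))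

/-! ### `n = 4`, `q + 1` a power of `2` -/

theorem exists_swap (hF : Fintype.card F = q ^ 2) : ∃ g : SU 4 F q, ∀ v, act g v = ![v 1, -v 0, v 2, v 3] := by
  have h1 : ∀ v : Fin 4 → F, (!![0, 1, 0, 0; -1, 0, 0, 0; 0, 0, 1, 0; 0, 0, 0, 1] : Matrix (Fin 4) (Fin 4) F) *ᵥ v =
      ![v 1, -v 0, v 2, v 3] := by
    intro v
    funext i
    fin_cases i <;> simp [Matrix.mulVec, dotProduct, Fin.sum_univ_succ]
  refine ⟨mkSU !![0, 1, 0, 0; -1, 0, 0, 0; 0, 0, 1, 0; 0, 0, 0, 1] ?_ ?_, h1⟩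
  · simp [Matrix.det_succ_row_zero, Fin.sum_univ_succ, Fin.succAbove]
  · intro u v
    rw [h1, h1, herm_def, herm_def]
    simp [Fin.sum_univ_succ, neg_pow_q hF]
    ring

/-- A monomial `2`-subgroup. -/
def MG (F : Type*) [Field F] [Fintype F] (q : ℕ) : Subgroup (SU 4 F q) where
  carrier := {g | ∃ a b : F, a ^ 4 = 1 ∧ b ^ 4 = 1 ∧ ((∀ v, act g v = ![a * v 0, b * v 1, v 2, v 3]) ∨
    (∀ v, act g v = ![a * v 1, b * v 0, v 2, v 3]))}
  one_mem' := ⟨1, 1, one_pow 4, one_pow 4, Or.inl fun v => by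
    rw [act_one]
    funext i
    fin_cases i <;> simp⟩
  mul_mem' := by
    rintro g g' ⟨a, b, ha, hb, h⟩ ⟨a', b', ha', hb', h'⟩
    rcases h with h | h <;> rcases h' with h' | h'
    · refine ⟨a * a', b * b', by rw [mul_pow, ha, ha', one_mul], by rw [mul_pow, hb, hb', one_mul], Or.inl fun v => ?_⟩
      rw [act_mul, h', h]
      simp [mul_assoc]
    · refine ⟨a * a', b * b', by rw [mul_pow, ha, ha', one_mul], by rw [mul_pow, hb, hb', one_mul], Or.inr fun v => ?_⟩
      rw [act_mul, h', h]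
      simp [mul_assoc]
    · refine ⟨a * b', b * a', by rw [mul_pow, ha, hb', one_mul], by rw [mul_pow, hb, ha', one_mul], Or.inr fun v => ?_⟩
      rw [act_mul, h', h]
      simp [mul_assoc]
    · refine ⟨a * b', b * a', by rw [mul_pow, ha, hb', one_mul], by rw [mul_pow, hb, ha', one_mul], Or.inl fun v => ?_⟩
      rw [act_mul, h', h]
      simp [mul_assoc]
  inv_mem' := by
    rintro g ⟨a, b, ha, hb, h⟩
    have ha0 : a ≠ 0 := by
      rintro rfl
      rw [zero_pow (by norm_num)] at ha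
      exact zero_ne_one ha
    have hb0 : b ≠ 0 := by
      rintro rfl
      rw [zero_pow (by norm_num)] at hb
      exact zero_ne_one hb
    rcases h with h | h
    · refine ⟨a⁻¹, b⁻¹, by rw [inv_pow, ha, inv_one], by rw [inv_pow, hb, inv_one], Or.inl fun v => ?_⟩
      symm
      rw [← act_eq_iff, h]
      funext i
      fin_cases i <;> simp [ha0, hb0]
    · refine ⟨b⁻¹, a⁻¹, by rw [inv_pow, hb, inv_one], by rw [inv_pow, ha, inv_one], Or.inr fun v => ?_⟩
      symm
      rw [← act_eq_iff, h]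
      funext i
      fin_cases i <;> simp [ha0, hb0]

theorem isPGroup_MG : IsPGroup 2 (MG F q) := by
  have key : ∀ g : SU 4 F q, ∀ a b : F, a ^ 4 = 1 → b ^ 4 = 1 → (∀ v, act g v = ![a * v 0, b * v 1, v 2, v 3]) →
      g ^ 4 = 1 := by
    intro g a b ha hb h
    apply ext_act
    intro v
    have h5 : g ^ 4 = g * (g * (g * g)) := by simp only [pow_succ, pow_zero, one_mul, mul_assoc]
    rw [h5, act_mul, act_mul, act_mul, h, h, h, h, act_one]
    funext i
    fin_cases i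
    · change a * (a * (a * (a * v 0))) = v 0
      linear_combination (v 0) * ha
    · change b * (b * (b * (b * v 1))) = v 1
      linear_combination (v 1) * hb
    · simp
    · simp
  rintro ⟨g, a, b, ha, hb, h⟩
  rcases h with h | h
  · exact ⟨2, Subtype.ext (key g a b ha hb h)⟩
  · refine ⟨3, Subtype.ext ?_⟩
    change g ^ 8 = 1
    rw [show (8 : ℕ) = 2 * 4 from rfl, pow_mul]
    refine key (g ^ 2) (a * b) (b * a) (by rw [mul_pow, ha, hb, one_mul]) (by rw [mul_pow, ha, hb, one_mul]) ?_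
    intro v
    rw [pow_two, act_mul, h, h]
    simp [mul_assoc]

theorem good_four' (hF : Fintype.card F = q ^ 2) {e f : Fin 4 → F} (H : IsFrame q e f) (h4 : 4 ∣ q + 1) :
    Good F q 4 e := by
  have hq := two_le hF
  obtain ⟨r, k, u, hr, hrd, -, hu2, hu3⟩ := exists_unit (F := F) hF (N := 4) (M := 2) (h4.trans (succ_dvd hF))
    (by norm_num)
  have hu : u ^ 2 = -1 := by
    have h1 : (u ^ 2 - 1) * (u ^ 2 + 1) = 0 := by linear_combination hu2
    have h2 := (mul_eq_zero.1 h1).resolve_left (sub_ne_zero.2 hu3)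
    linear_combination h2
  have h20 : (2 : F) ≠ 0 := by
    intro h
    apply hu3
    rw [hu]
    linear_combination -h
  have hu0 : u ≠ 0 := by
    rintro rfl
    rw [zero_pow (by norm_num)] at hu2
    exact zero_ne_one hu2
  have hui : u⁻¹ = -u := inv_eq_of_mul_eq_one_right (by linear_combination -hu)
  have huq : u ^ (q + 1) = 1 := by
    obtain ⟨m, hm⟩ := h4
    rw [hm, pow_mul, hu2, one_pow]
  have huq' : u ^ q = -u := by
    rw [← hui]
    rw [pow_succ] at huq
    exact eq_inv_of_mul_eq_one_left huq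
  have he0 : e 0 = 0 := frame_apply hF H (by norm_num)
  have he1 : e 1 = 0 := frame_apply hF H (by norm_num)
  have hvec : (![0, 0, e 2, e 3] : Fin 4 → F) = e := by
    funext i
    fin_cases i
    · simp [he0]
    · simp [he1]
    · simp
    · simp
  have hDe : ∀ g ∈ MG F q, act g e = (1 : F) • e := by
    rintro g ⟨a, b, ha, hb, h | h⟩
    · rw [h, he0, he1, mul_zero, mul_zero, one_smul, hvec]
    · rw [h, he0, he1, mul_zero, mul_zero, one_smul, hvec]
  obtain ⟨g₂, hg₂⟩ := exists_swap (F := F) hF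
  obtain ⟨g₁, hg₁⟩ := exists_diag (F := F) (q := q) (n := 4) (ζ := ![u, u⁻¹, 1, 1])
    (by
      intro i
      fin_cases i
      · simpa using huq
      · simpa using huq
      · simp
      · simp)
    (by simp [Fin.prod_univ_succ, hu0])
  have hg₁' : ∀ v, act g₁ v = ![u * v 0, u⁻¹ * v 1, v 2, v 3] := by
    intro v
    rw [hg₁]
    funext i
    fin_cases i <;> simp
  have hm₁ : g₁ ∈ MG F q := ⟨u, u⁻¹, hu2, by rw [inv_pow, hu2, inv_one], Or.inl hg₁'⟩
  have hm₂ : g₂ ∈ MG F q := ⟨1, -1, one_pow 4, by norm_num, Or.inr fun v => by rw [hg₂]; simp⟩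
  refine ⟨2, Nat.prime_two, dvd_trans (by norm_num) (h4.trans (succ_dvd hF)), MG F q, isPGroup_MG,
    fun g hg => ⟨1, one_ne_zero, hDe g hg⟩, ?_⟩
  intro w hw hw0
  by_contra hcon
  push Not at hcon
  have hw2 : w 2 = 0 := hw 2 (by norm_num)
  have hw3 : w 3 = 0 := hw 3 (by norm_num)
  have x1 := hcon g₁ hm₁ 1 one_ne_zero (hDe _ hm₁)
  have x2 := hcon g₂ hm₂ 1 one_ne_zero (hDe _ hm₂)
  have x3 := hcon (g₁ * g₂) (mul_mem hm₁ hm₂) 1 one_ne_zero (hDe _ (mul_mem hm₁ hm₂))
  have h0q : (0 : F) ^ q = 0 := zero_pow_q hF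
  have hh : ∀ a b : F, hermForm 4 F q w ![a, b, w 2, w 3] = w 0 * a ^ q + w 1 * b ^ q := by
    intro a b
    rw [herm_def, Fin.sum_univ_four]
    simp [hw2, hw3]
  have hh' : ∀ a b : F, hermForm 4 F q ![a, b, w 2, w 3] w = a * w 0 ^ q + b * w 1 ^ q := by
    intro a b
    rw [herm_def, Fin.sum_univ_four]
    simp [hw2, hw3]
  have hg₃ : act (g₁ * g₂) w = ![u * w 1, u⁻¹ * -w 0, w 2, w 3] := by
    rw [act_mul, hg₂, hg₁']
    rfl
  rw [one_mul, ← herm_swap hF, hg₁', hh, hh', hui, mul_pow, mul_pow, neg_pow_q hF, huq'] at x1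
  rw [one_mul, ← herm_swap hF, hg₂, hh, hh', neg_pow_q hF] at x2
  rw [one_mul, ← herm_swap hF, hg₃, hh, hh', hui, mul_pow, mul_pow, neg_pow_q hF, neg_pow_q hF, huq'] at x3
  have y1 : w 0 * w 0 ^ q = w 1 * w 1 ^ q := by
    apply mul_left_cancel₀ (mul_ne_zero h20 hu0)
    linear_combination x1
  have y2 : w 0 * w 1 ^ q = w 1 * w 0 ^ q := by
    apply mul_left_cancel₀ h20
    linear_combination -x2
  have y3 : w 0 * w 1 ^ q = - (w 1 * w 0 ^ q) := by
    apply mul_left_cancel₀ (mul_ne_zero h20 hu0)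
    linear_combination x3
  have y4 : w 0 * w 1 ^ q = 0 := by
    apply mul_left_cancel₀ h20
    linear_combination y2 + y3
  have hw01 : w 0 = 0 ∧ w 1 = 0 := by
    rcases mul_eq_zero.1 y4 with h | h
    · rw [h, zero_mul] at y1
      exact ⟨h, norm_eq_zero (by omega) y1.symm⟩
    · have h' := (pow_eq_zero_iff (by omega : q ≠ 0)).1 h
      rw [h', zero_mul] at y1
      exact ⟨norm_eq_zero (by omega) y1, h'⟩
  apply hw0
  funext i
  fin_cases i
  · exact hw01.1
  · exact hw01.2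
  · exact hw2
  · exact hw3

/-! ### `n = 3` -/

omit [Fintype F] in
theorem act_pow_smul {g : SU n F q} {v : Fin n → F} {c : F} (h : act g v = c • v) (j : ℕ) :
    act (g ^ j) v = c ^ j • v := by
  induction j with
  | zero => rw [pow_zero, pow_zero, act_one, one_smul]
  | succ j ih => rw [pow_succ, act_mul, h, act_smul, ih, smul_smul, pow_succ, mul_comm]

/-- The decomposition in dimension three. -/
theorem decomp (hF : Fintype.card F = q ^ 2) {e f : Fin 3 → F} (H : IsFrame q e f) (x : Fin 3 → F) :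
    x = (x 0) • (Pi.single 0 1 : Fin 3 → F) + hermForm 3 F q x f • e + hermForm 3 F q x e • f := by
  have hfe : hermForm 3 F q f e = 1 := by rw [herm_swap hF, H.ef, one_pow]
  have he0 : e 0 = 0 := frame_apply hF H (by norm_num)
  have hf0 : f 0 = 0 := by
    have h1 := ((H.mem _).1 (single_mem_coordSub (i := (0 : Fin 3)) (by norm_num) 1)).2
    have h2 := herm_eq_zero_swap hF h1
    rwa [herm_single_right hF, one_pow, mul_one] at h2
  have h1 : x - hermForm 3 F q x f • e - hermForm 3 F q x e • f ∈ coordSub F 3 (3 - 2) := by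
    rw [H.mem]
    constructor
    · rw [herm_sub_left, herm_sub_left, herm_smul_left, herm_smul_left, H.ee, hfe]; ring
    · rw [herm_sub_left, herm_sub_left, herm_smul_left, herm_smul_left, H.ff, H.ef]; ring
  have h2 : x - hermForm 3 F q x f • e - hermForm 3 F q x e • f = (x 0) • (Pi.single 0 1 : Fin 3 → F) := by
    funext i
    rcases (by omega : i.val = 0 ∨ 3 - 2 ≤ i.val) with hi | hi
    · obtain rfl : i = 0 := Fin.ext hi
      simp [he0, hf0]
    · rw [h1 i hi, Pi.smul_apply, Pi.single_eq_of_ne (by rintro rfl; simp at hi), smul_zero]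
  rw [← h2]
  abel

theorem good_three (hF : Fintype.card F = q ^ 2) {e f : Fin 3 → F} (H : IsFrame q e f) (h2 : q ≠ 2) :
    Good F q 3 e := by
  have hq := two_le hF
  have hfe : hermForm 3 F q f e = 1 := by rw [herm_swap hF, H.ef, one_pow]
  have hsq : q ^ 2 - 1 = (q - 1) * (q + 1) := by
    obtain ⟨m, rfl⟩ : ∃ m, q = m + 1 := ⟨q - 1, by omega⟩
    simp only [Nat.add_sub_cancel]
    rw [Nat.sub_eq_iff_eq_add (Nat.one_le_pow _ _ (by omega))]
    ring
  obtain ⟨r, k, u, hr, hrd, hu1, hu2, hu3⟩ := exists_unit (F := F) hF (N := q ^ 2 - 1) (M := 3 * (q - 1)) dvd_rfl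
    (by
      rw [hsq, mul_comm]
      intro h
      have h3 := Nat.dvd_of_mul_dvd_mul_right (by omega) h
      have h4 := Nat.le_of_dvd (by norm_num) h3
      omega)
  have hu0 : u ≠ 0 := by
    rintro rfl
    rw [zero_pow (by rw [hsq]; exact Nat.mul_ne_zero (by omega) (by omega))] at hu2
    exact zero_ne_one hu2
  have huq0 : u ^ q ≠ 0 := pow_ne_zero _ hu0
  have hc : (u ^ q)⁻¹ ^ q = u⁻¹ := by rw [inv_pow, pow_q_pow_q hF]
  obtain ⟨g, -, hge, hgf⟩ := exists_map_hyp hF (n := 3) (k := 3) le_rfl le_rfl (u := e) (u' := f) (v := u • e)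
    (v' := (u ^ q)⁻¹ • f) (mem_coordSub_top _) (mem_coordSub_top _) (mem_coordSub_top _) (mem_coordSub_top _) H.ee H.ff
    H.ef (by rw [herm_smul_left, herm_smul_right, H.ee]; ring) (by rw [herm_smul_left, herm_smul_right, H.ff]; ring)
    (by rw [herm_smul_left, herm_smul_right, H.ef, hc]; field_simp)
  -- the third eigenvector
  have hv1 : (Pi.single 0 1 : Fin 3 → F) ∈ coordSub F 3 (3 - 2) := single_mem_coordSub (by norm_num) 1
  have hve := (H.mem _).1 hv1
  have hgve : hermForm 3 F q (act g (Pi.single 0 1)) e = 0 := by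
    have h3 : hermForm 3 F q (act g (Pi.single 0 1)) (act g e) = 0 := by rw [herm_act]; exact hve.1
    rw [hge, herm_smul_right] at h3
    exact (mul_eq_zero.1 h3).resolve_left huq0
  have hgvf : hermForm 3 F q (act g (Pi.single 0 1)) f = 0 := by
    have h3 : hermForm 3 F q (act g (Pi.single 0 1)) (act g f) = 0 := by rw [herm_act]; exact hve.2
    rw [hgf, herm_smul_right] at h3
    exact (mul_eq_zero.1 h3).resolve_left (pow_ne_zero _ (inv_ne_zero huq0))
  obtain ⟨a, ha⟩ : ∃ a, act g (Pi.single 0 1) = a • (Pi.single 0 1 : Fin 3 → F) := by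
    refine ⟨act g (Pi.single 0 1) 0, ?_⟩
    have h3 := decomp hF H (act g (Pi.single 0 1))
    rw [hgve, hgvf, zero_smul, zero_smul, add_zero, add_zero] at h3
    exact h3
  -- the determinant
  have hdet : a * u * (u ^ q)⁻¹ = 1 := by
    obtain ⟨b, hb⟩ : ∃ b : Fin 3 → (Fin 3 → F), b = ![Pi.single 0 1, e, f] := ⟨_, rfl⟩
    obtain ⟨d, hd⟩ : ∃ d : Fin 3 → F, d = ![a, u, (u ^ q)⁻¹] := ⟨_, rfl⟩
    have hbd : ∀ j, act g (b j) = d j • b j := by
      intro j
      rw [hb, hd]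
      fin_cases j
      · exact ha
      · exact hge
      · exact hgf
    let P : Matrix (Fin 3) (Fin 3) F := Matrix.of fun i j => b j i
    have h3 : mat g * P = P * Matrix.diagonal d := by
      ext i j
      have h4 : (mat g * P) i j = act g (b j) i := rfl
      rw [h4, hbd, Matrix.mul_diagonal, Pi.smul_apply, smul_eq_mul, mul_comm]
      rfl
    have h4 : P.det ≠ 0 := by
      intro h0
      obtain ⟨x, hx0, hx⟩ := Matrix.exists_mulVec_eq_zero_iff.2 h0
      have h5 : x 0 • b 0 + x 1 • b 1 + x 2 • b 2 = 0 := by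
        rw [← hx]
        funext i
        simp only [P, Matrix.mulVec, dotProduct, Fin.sum_univ_three, Matrix.of_apply, Pi.add_apply, Pi.smul_apply,
          smul_eq_mul]
        ring
      rw [hb] at h5
      change x 0 • (Pi.single 0 1 : Fin 3 → F) + x 1 • e + x 2 • f = 0 at h5
      have h6 : hermForm 3 F q (x 0 • (Pi.single 0 1 : Fin 3 → F) + x 1 • e + x 2 • f) e = 0 := by
        rw [h5, herm_zero_left]
      have h7 : hermForm 3 F q (x 0 • (Pi.single 0 1 : Fin 3 → F) + x 1 • e + x 2 • f) f = 0 := by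
        rw [h5, herm_zero_left]
      rw [herm_add_left, herm_add_left, herm_smul_left, herm_smul_left, herm_smul_left, hve.1, H.ee, hfe] at h6
      rw [herm_add_left, herm_add_left, herm_smul_left, herm_smul_left, herm_smul_left, hve.2, H.ef, H.ff] at h7
      have h8 : x 2 = 0 := by linear_combination h6
      have h9 : x 1 = 0 := by linear_combination h7
      rw [h8, h9, zero_smul, zero_smul, add_zero, add_zero] at h5
      have h10 : x 0 = 0 := by
        have := congrFun h5 0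
        simpa using this
      apply hx0
      funext i
      fin_cases i
      · exact h10
      · exact h9
      · exact h8
    have h5 := congrArg Matrix.det h3
    rw [Matrix.det_mul, Matrix.det_mul, det_mat, one_mul, Matrix.det_diagonal, Fin.prod_univ_three, hd] at h5
    have h6 : P.det * 1 = P.det * (a * u * (u ^ q)⁻¹) := by rw [mul_one]; exact h5
    exact (mul_left_cancel₀ h4 h6).symm
  have hau : a * u = u ^ q := by
    field_simp at hdet
    exact hdet
  have hgm : g ^ r ^ k = 1 := by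
    apply ext_act
    intro x
    rw [act_one]
    conv_rhs => rw [decomp hF H x]
    conv_lhs => rw [decomp hF H x]
    have ham : a ^ r ^ k = 1 := by
      have h3 : a ^ r ^ k * u ^ r ^ k = (u ^ r ^ k) ^ q := by rw [← mul_pow, hau, ← pow_mul, ← pow_mul, mul_comm]
      rwa [hu1, one_pow, mul_one] at h3
    rw [act_add, act_add, act_smul, act_smul, act_smul, act_pow_smul ha, act_pow_smul hge, act_pow_smul hgf, ham, hu1,
      inv_pow, ← pow_mul, mul_comm q, pow_mul, hu1, one_pow, inv_one, one_smul, one_smul, one_smul]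
  refine ⟨r, hr, hrd, Subgroup.zpowers g, ?_, ?_, ?_⟩
  · rintro ⟨x, j, rfl⟩
    refine ⟨k, Subtype.ext ?_⟩
    change (g ^ j) ^ r ^ k = 1
    rw [← zpow_natCast, ← _root_.zpow_mul, mul_comm, _root_.zpow_mul, zpow_natCast, hgm, _root_.one_zpow]
  · intro x hx
    have hfin : Finite (SU 3 F q) := inferInstance
    rw [← mem_powers_iff_mem_zpowers] at hx
    obtain ⟨j, rfl⟩ := hx
    exact ⟨u ^ j, pow_ne_zero _ hu0, act_pow_smul hge j⟩
  · intro w hw hw0
    refine ⟨g, Subgroup.mem_zpowers g, u, hu0, hge, ?_⟩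
    have hw1 := (H.mem w).1 hw
    have hw2 : w = w 0 • (Pi.single 0 1 : Fin 3 → F) := by
      have h3 := decomp hF H w
      rwa [hw1.1, hw1.2, zero_smul, zero_smul, add_zero, add_zero] at h3
    have hgw : act g w = a • w := by
      conv_lhs => rw [hw2]
      rw [act_smul, ha, smul_comm, ← hw2]
    have hN : hermForm 3 F q w w ≠ 0 := by
      intro h
      apply hw0
      rw [hw2, herm_smul_left, herm_smul_right, herm_single_right hF, Pi.single_eq_same] at h
      have h3 : w 0 * w 0 ^ q = 0 := by linear_combination h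
      rw [hw2, norm_eq_zero (by omega) h3, zero_smul]
    rw [hgw, herm_smul_right]
    intro h
    apply hu3
    rw [mul_pow, mul_pow, pow_q_pow_q hF, herm_self_pow hF] at h
    have h4 : u ^ q * a = u * a ^ q := by
      apply mul_right_cancel₀ hN
      linear_combination h
    have h5 : a ^ q * u ^ q = u := by rw [← mul_pow, hau, pow_q_pow_q hF]
    -- `u ^ (3 (q - 1)) = 1`
    have h6 : (u ^ q) ^ 3 = u ^ 3 := by
      linear_combination (u * u ^ q) * h4 + (u ^ 2) * h5 - (u ^ q) ^ 2 * hau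
    have h7 : u ^ 3 * u ^ (3 * (q - 1)) = u ^ 3 * 1 := by
      rw [← pow_add, mul_one, ← h6, ← pow_mul]
      congr 1
      obtain ⟨m, rfl⟩ : ∃ m, q = m + 1 := ⟨q - 1, by omega⟩
      simp only [Nat.add_sub_cancel]
      ring
    exact mul_left_cancel₀ (pow_ne_zero _ hu0) h7

theorem good (hF : Fintype.card F = q ^ 2) (hn : 3 ≤ n) (hne : ¬ (n = 3 ∧ q = 2)) {e f : Fin n → F}
    (H : IsFrame q e f) : Good F q n e := by
  have hq := two_le hF
  rcases (by omega : n = 3 ∨ n = 4 ∨ 5 ≤ n) with rfl | rfl | h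
  · exact good_three hF H (fun h => hne ⟨rfl, h⟩)
  · by_cases h8 : q + 1 ∣ 8
    · refine good_four' hF H ?_
      have h1 := Nat.le_of_dvd (by norm_num) h8
      have h2 : q ≤ 7 := by omega
      interval_cases q <;> omega
    · exact good_four hF H h8
  · exact good_five hF h H

/-- **The group `D`.** -/
theorem exists_group (hF : Fintype.card F = q ^ 2) (hn : 3 ≤ n) (hne : ¬ (n = 3 ∧ q = 2)) {e f : Fin n → F}
    (H : IsFrame q e f) : ∃ r : ℕ, r.Prime ∧ r ∣ q ^ 2 - 1 ∧ ∃ D : Subgroup (PSU n F q), IsPGroup r D ∧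
      (∀ g ∈ D, ∀ x ∈ QQ hF e H.ee, g * x * g⁻¹ ∈ QQ hF e H.ee) ∧
      ∀ y ∈ QQ hF e H.ee, y ∉ RR hF e H.ee → ∃ g ∈ D, ⁅y, g * y * g⁻¹⁆ ≠ 1 := by
  obtain ⟨r, hr, hrd, D, hD, hDe, hstar⟩ := good hF hn hne H
  exact ⟨r, hr, hrd, D.map (pr n F q), of_SU hF hn H hD hDe hstar⟩

end Cfsg.Agent.H667.TwoPSUFix
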