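import Cfsg.Agent.H384.TwoTransRed
import Cfsg.Agent.H667.TwoPSUCore
import Cfsg.Agent.H667.TwoPSUModel

/-!
# 2-transitive groups with socle `PSU_d(q)`, characteristic dividing the degree (helper667)

`degree` : if the normaliser in `G` of a transvection group of `T` is transitive on `Ω` then the degree is `q^d` or
`q^(d-1)`.
-/

set_option autoImplicit false

namespace Cfsg.Agent.H667.TwoPSU

open Cfsg Cfsg.Agent.H384.TwoTrans Cfsg.Agent.H667.TwoPSUCore Cfsg.Agent.H667.TwoPSUModel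
open scoped commutatorElement

universe u v

variable {G : Type u} {Ω : Type v} [Group G] [MulAction G Ω] {T : Subgroup G}

section Transport

variable {K : Type*} [Group K] (e : ↥T ≃* K)

/-- The embedding of the model. -/
def emb : K →* G := T.subtype.comp e.symm.toMonoidHom

theorem emb_apply (x : K) : emb e x = (e.symm x : G) := rfl

theorem emb_injective : Function.Injective (emb e) := fun _ _ h => e.symm.injective (Subtype.ext h)

/-- The automorphism of the model induced by an element of `G`. -/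
def autG (hT : T.Normal) (g : G) : MulAut K :=
  e.symm.trans ((MulAut.conjNormal g : MulAut T).trans e)

theorem emb_autG (hT : T.Normal) (g : G) (x : K) : emb e (autG e hT g x) = g * emb e x * g⁻¹ := by
  change ((e.symm (e (MulAut.conjNormal g (e.symm x))) : T) : G) = _
  rw [e.symm_apply_apply, MulAut.conjNormal_apply]
  rfl

theorem map_emb_conj (hT : T.Normal) (g : G) (R : Subgroup K) :
    (R.map (emb e)).map (MulAut.conj g).toMonoidHom = (R.map (autG e hT g : K →* K)).map (emb e) := by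
  ext x
  constructor
  · rintro ⟨_, ⟨y, hy, rfl⟩, rfl⟩
    exact ⟨autG e hT g y, ⟨y, hy, rfl⟩, emb_autG e hT g y⟩
  · rintro ⟨_, ⟨y, hy, rfl⟩, rfl⟩
    exact ⟨emb e y, ⟨y, hy, rfl⟩, (emb_autG e hT g y).symm⟩

theorem map_emb_conj_emb (k : K) (R : Subgroup K) :
    (R.map (emb e)).map (MulAut.conj (emb e k)).toMonoidHom =
      (R.map (MulAut.conj k).toMonoidHom).map (emb e) := by
  ext x
  constructor
  · rintro ⟨_, ⟨y, hy, rfl⟩, rfl⟩
    refine ⟨k * y * k⁻¹, ⟨y, hy, rfl⟩, ?_⟩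
    rw [map_mul, map_mul, map_inv]
    rfl
  · rintro ⟨_, ⟨y, hy, rfl⟩, rfl⟩
    refine ⟨emb e y, ⟨y, hy, rfl⟩, ?_⟩
    change emb e k * emb e y * (emb e k)⁻¹ = emb e (k * y * k⁻¹)
    rw [map_mul, map_mul, map_inv]

theorem card_map_emb (R : Subgroup K) : Nat.card (R.map (emb e)) = Nat.card R :=
  (Nat.card_congr (R.equivMapOfInjective (emb e) (emb_injective e)).toEquiv).symm

end Transport

/-- **The degree.** -/
theorem degree (A : AS G Ω T) {p : ℕ} (hp : p.Prime) {F : Type*} [Field F] [Fintype F] {d q f : ℕ}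
    (hF : Fintype.card F = q ^ 2) (hd : 3 ≤ d) (hq : q = p ^ f) (e : ↥T ≃* PSU d F q)
    (htr : ∃ Z ∈ ZZ hF d, ∀ α β : Ω, ∃ g : G,
      (Z.map (emb e)).map (MulAut.conj g).toMonoidHom = Z.map (emb e) ∧ g • α = β) :
    Nat.card Ω = q ^ d ∨ Nat.card Ω = q ^ (d - 1) := by
  have := A.finG
  have := A.finΩ
  have := A.faithful
  have hn : 2 ≤ Nat.card Ω := by
    have := A.nontrivialΩ
    exact Finite.one_lt_card
  have hq2 := Cfsg.Agent.LieClassical.HermBasic.two_le hF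
  have hinj := emb_injective e
  obtain ⟨Z₀, hZ₀, Q, hZQ, hQ, hcomm, hcen, hsurj, haut⟩ := exists_QQ hF hd
  have hmapinj : Function.Injective (Subgroup.map (emb e)) := Subgroup.map_injective hinj
  refine degree_eq (𝒵 := Subgroup.map (emb e) '' ZZ hF d) A.two hn hp hq hq2 hd ?_ ?_ ?_ ?_ ?_
    (Z := Z₀.map (emb e)) ⟨Z₀, hZ₀, rfl⟩ (Q := Q.map (emb e)) (Subgroup.map_mono hZQ) ?_ ?_ ?_ ?_ ?_
  · rintro g _ ⟨Z, hZ, rfl⟩
    rw [map_emb_conj e A.normal]
    exact ⟨_, ZZ_map hF hd _ Z hZ, rfl⟩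
  · rintro _ ⟨Z, hZ, rfl⟩
    rw [card_map_emb, ZZ_card_eq hF hd Z hZ]
  · rintro _ ⟨Z, hZ, rfl⟩ _ ⟨Z', hZ', rfl⟩ hne
    rw [← Subgroup.map_inf _ _ _ hinj, ZZ_int hF hd Z hZ Z' hZ' (fun h => hne (by rw [h])), Subgroup.map_bot]
  · rintro _ ⟨Z, hZ, rfl⟩ _ ⟨Z', hZ', rfl⟩
    obtain ⟨g, hg⟩ := ZZ_conj hF hd Z hZ Z' hZ'
    exact ⟨emb e g, by rw [map_emb_conj_emb, hg]⟩
  · rw [Nat.card_image_of_injective hmapinj]
    exact card_ZZ hF hd
  · rw [card_map_emb, hQ]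
  · rintro _ ⟨x, hx, rfl⟩ _ ⟨y, hy, rfl⟩
    rw [← map_commutatorElement]
    exact ⟨_, hcomm x hx y hy, rfl⟩
  · rintro _ ⟨x, hx, rfl⟩ _ ⟨y, hy, rfl⟩
    rw [← map_mul, ← map_mul, hcen x hx y hy]
  · rintro _ ⟨x, hx, rfl⟩ hxZ _ ⟨z, hz, rfl⟩
    obtain ⟨v, hv, h⟩ := hsurj x hx (fun h => hxZ ⟨x, h, rfl⟩) z hz
    exact ⟨emb e v, ⟨v, hv, rfl⟩, by rw [← map_commutatorElement, h]⟩
  · obtain ⟨Z, hZ, htr⟩ := htr
    obtain ⟨h, hh⟩ := ZZ_conj hF hd Z hZ Z₀ hZ₀
    intro α β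
    obtain ⟨g, hg, hgα⟩ := htr ((emb e h)⁻¹ • α) ((emb e h)⁻¹ • β)
    have h1 : (Z₀.map (emb e)).map (MulAut.conj (emb e h * g * (emb e h)⁻¹)).toMonoidHom = Z₀.map (emb e) := by
      have h2 : (Z.map (emb e)).map (MulAut.conj (emb e h)).toMonoidHom = Z₀.map (emb e) := by
        rw [map_emb_conj_emb, hh]
      have h3 : ∀ a b : G, ∀ R : Subgroup G, R.map (MulAut.conj (a * b)).toMonoidHom =
          (R.map (MulAut.conj b).toMonoidHom).map (MulAut.conj a).toMonoidHom := by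
        intro a b R
        rw [Subgroup.map_map, map_mul]
        rfl
      have h4 : (Z₀.map (emb e)).map (MulAut.conj (emb e h)⁻¹).toMonoidHom = Z.map (emb e) := by
        rw [← h2, ← h3, inv_mul_cancel, map_one]
        exact Subgroup.map_id _
      rw [h3, h4, h3, hg, h2]
    refine ⟨emb e h * g * (emb e h)⁻¹, h1, ?_, ?_⟩
    · rw [map_emb_conj e A.normal] at h1 ⊢
      rw [haut _ (hmapinj h1)]
    · rw [mul_smul, mul_smul, hgα, smul_inv_smul]

end Cfsg.Agent.H667.TwoPSU
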